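import Cfsg.Agent.S0205
import Mathlib.GroupTheory.SchurZassenhaus
import Mathlib.GroupTheory.Sylow

/-!
# Groups whose `π`-subgroups are 2-closed: definitions and inheritance
-/

set_option autoImplicit false
set_option linter.unusedSectionVars false
set_option linter.style.haveILetI false

namespace CfsgLib.PiClosed

open Subgroup

universe u

/-- All prime divisors are in `π`. -/
def PiNum (π : Set ℕ) (n : ℕ) : Prop := ∀ p : ℕ, p.Prime → p ∣ n → p ∈ π

/-- No prime divisor is in `π`. -/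
def PiFree (π : Set ℕ) (n : ℕ) : Prop := ∀ p : ℕ, p.Prime → p ∣ n → p ∉ π

/-- The Sylow 2-subgroup is normal. -/
def TwoClosed (G : Type u) [Group G] : Prop := ∀ P : Sylow 2 G, (P : Subgroup G).Normal

/-- All `π`-subgroups are 2-closed. -/
def Cl (π : Set ℕ) (G : Type u) [Group G] : Prop :=
  ∀ H : Subgroup G, PiNum π (Nat.card H) → TwoClosed H

/-- `π'`-elements centralize the `p`-subgroups they normalize, for `p` in `π`. -/
def Act (π : Set ℕ) (G : Type u) [Group G] : Prop :=
  ∀ p : ℕ, p.Prime → p ∈ π → ∀ P : Subgroup G, IsPGroup p P → ∀ x : G, PiFree π (orderOf x) →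
    x ∈ normalizer (P : Set G) → ∀ a ∈ P, a * x = x * a

/-- The `π'`-elements form a subgroup. -/
def Closed (π : Set ℕ) (G : Type u) [Group G] : Prop :=
  ∃ K : Subgroup G, ∀ x : G, x ∈ K ↔ PiFree π (orderOf x)

variable {π : Set ℕ}

theorem PiFree.of_dvd {m n : ℕ} (h : PiFree π n) (hd : m ∣ n) : PiFree π m :=
  fun p hp hpm => h p hp (hpm.trans hd)

theorem PiNum.of_dvd {m n : ℕ} (h : PiNum π n) (hd : m ∣ n) : PiNum π m :=
  fun p hp hpm => h p hp (hpm.trans hd)

theorem PiNum.mul {m n : ℕ} (hm : PiNum π m) (hn : PiNum π n) : PiNum π (m * n) :=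
  fun p hp h => (hp.dvd_mul.1 h).elim (hm p hp) (hn p hp)

theorem PiFree.mul {m n : ℕ} (hm : PiFree π m) (hn : PiFree π n) : PiFree π (m * n) :=
  fun p hp h => (hp.dvd_mul.1 h).elim (hm p hp) (hn p hp)

theorem piFree_one : PiFree π 1 := fun _ hp h => absurd (Nat.dvd_one.1 h) hp.ne_one

theorem PiFree.coprime {m n : ℕ} (hm : PiFree π m) (hn : PiNum π n) : Nat.Coprime m n :=
  Nat.coprime_of_dvd fun p hp h1 h2 => hm p hp h1 (hn p hp h2)

theorem PiFree.eq_one {m : ℕ} (hm : PiFree π m) (hn : PiNum π m) : m = 1 :=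
  (Nat.coprime_self m).1 (hm.coprime hn)

theorem PiFree.odd {m : ℕ} (h2 : 2 ∈ π) (hm : PiFree π m) : Odd m :=
  Nat.not_even_iff_odd.1 fun h => hm 2 Nat.prime_two (even_iff_two_dvd.1 h) h2

theorem piNum_prime_pow {p : ℕ} (hp : p.Prime) (hpi : p ∈ π) (k : ℕ) : PiNum π (p ^ k) :=
  fun q hq h => by rwa [(Nat.prime_dvd_prime_iff_eq hq hp).1 (hq.dvd_of_dvd_pow h)]

section Group

variable {G : Type u} [Group G]

theorem piNum_of_isPGroup [Finite G] {p : ℕ} (hp : p.Prime) (hpi : p ∈ π) {P : Subgroup G}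
    (hP : IsPGroup p P) : PiNum π (Nat.card P) := by
  haveI := Fact.mk hp
  obtain ⟨k, hk⟩ := IsPGroup.iff_card.1 hP
  rw [hk]
  exact piNum_prime_pow hp hpi k

theorem orderOf_conj (g x : G) : orderOf (g * x * g⁻¹) = orderOf x :=
  (MulAut.conj g).orderOf_eq x

/-- A subgroup all whose elements have `π'`-order has `π'`-order. -/
theorem piFree_card [Finite G] {K : Subgroup G} (hK : ∀ x ∈ K, PiFree π (orderOf x)) :
    PiFree π (Nat.card K) := fun p hp hd => by
  haveI := Fact.mk hp
  obtain ⟨x, hx⟩ := exists_prime_orderOf_dvd_card' (G := K) p hd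
  refine hK x x.2 p hp ?_
  rw [Subgroup.orderOf_coe, hx]

theorem piNum_card [Finite G] {H : Subgroup G}
    (hH : ∀ x ∈ H, PiFree π (orderOf x) → x = 1) : PiNum π (Nat.card H) := fun p hp hd => by
  haveI := Fact.mk hp
  obtain ⟨x, hx⟩ := exists_prime_orderOf_dvd_card' (G := H) p hd
  by_contra hpi
  have h1 := hH x x.2 fun q hq hqd => by
    rw [Subgroup.orderOf_coe, hx] at hqd
    rwa [(Nat.prime_dvd_prime_iff_eq hq hp).1 hqd]
  rw [OneMemClass.coe_eq_one.1 h1, orderOf_one] at hx
  exact hp.ne_one hx.symm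

theorem Closed.conj_mem {K : Subgroup G} (hK : ∀ x : G, x ∈ K ↔ PiFree π (orderOf x)) {g x : G}
    (hx : x ∈ K) : g * x * g⁻¹ ∈ K := by
  rw [hK, orderOf_conj]
  exact (hK x).1 hx

/-- An element of `π'`-order modulo `N` has a power of `π'`-order in the same coset. -/
theorem exists_pi_power [Finite G] (N : Subgroup G) [N.Normal] (y : G)
    (hy : PiFree π (orderOf (QuotientGroup.mk y : G ⧸ N))) :
    ∃ i : ℕ, PiFree π (orderOf (y ^ i)) ∧ (QuotientGroup.mk (y ^ i) : G ⧸ N) = QuotientGroup.mk y := by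
  induction hn : orderOf y using Nat.strong_induction_on generalizing y with
  | _ n ih =>
  subst hn
  by_cases hfree : PiFree π (orderOf y)
  · exact ⟨1, by rwa [pow_one], by rw [pow_one]⟩
  simp only [PiFree, not_forall, not_not] at hfree
  obtain ⟨p, hp, hpd, hpi⟩ := hfree
  have hn0 : orderOf y ≠ 0 := (orderOf_pos y).ne'
  set m := orderOf y / p ^ (orderOf y).factorization p with hm
  have hmul : p ^ (orderOf y).factorization p * m = orderOf y := Nat.ordProj_mul_ordCompl_eq_self _ _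
  have hcop : Nat.Coprime (p ^ (orderOf y).factorization p) m :=
    (Nat.coprime_ordCompl hp hn0).pow_left _
  obtain ⟨e, he1, he2⟩ := Nat.chineseRemainder hcop 0 1
  have hd : orderOf (QuotientGroup.mk y : G ⧸ N) ∣ m := by
    refine (Nat.Coprime.dvd_of_dvd_mul_left ?_ (hmul ▸ orderOf_map_dvd (QuotientGroup.mk' N) y))
    exact hy.coprime (piNum_prime_pow hp hpi _)
  have himg : (QuotientGroup.mk (y ^ e) : G ⧸ N) = QuotientGroup.mk y := by
    rw [QuotientGroup.mk_pow]
    exact (pow_eq_pow_iff_modEq.2 (he2.of_dvd hd)).trans (pow_one _)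
  have hdvd : orderOf (y ^ e) ∣ m := by
    refine orderOf_dvd_of_pow_eq_one ?_
    obtain ⟨c, hc⟩ := Nat.modEq_zero_iff_dvd.1 he1
    rw [← pow_mul, hc, mul_right_comm, hmul, pow_mul, pow_orderOf_eq_one, one_pow]
  have hlt : orderOf (y ^ e) < orderOf y := by
    refine lt_of_le_of_lt (Nat.le_of_dvd (Nat.ordCompl_pos p hn0) hdvd) ?_
    exact Nat.div_lt_self (Nat.pos_of_ne_zero hn0)
      (Nat.one_lt_pow (hp.factorization_pos_of_dvd hn0 hpd).ne' hp.one_lt)
  obtain ⟨i, hi, hi'⟩ := ih _ hlt (y ^ e) (himg ▸ hy) rfl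
  exact ⟨e * i, by rwa [pow_mul], by rw [pow_mul, hi', himg]⟩

end Group

/-! ### Two-closed groups -/

theorem TwoClosed.map {G H : Type u} [Group G] [Group H] [Finite G] (h : TwoClosed G) (f : G →* H)
    (hf : Function.Surjective f) : TwoClosed H := by
  haveI : Finite H := Finite.of_surjective f hf
  haveI : Fact (Nat.Prime 2) := ⟨Nat.prime_two⟩
  intro Q
  obtain ⟨P⟩ : Nonempty (Sylow 2 G) := Sylow.nonempty
  have hn : ((P.mapSurjective hf : Sylow 2 H) : Subgroup H).Normal := (h P).map f hf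
  obtain ⟨g, hg⟩ := MulAction.exists_smul_eq H (P.mapSurjective hf) Q
  haveI := hn
  rw [← hg, Sylow.smul_eq_of_normal]
  exact hn

/-- A 2-subgroup of a 2-closed group lies in every Sylow 2-subgroup. -/
theorem TwoClosed.le_sylow {G : Type u} [Group G] [Finite G] (h : TwoClosed G) (P : Sylow 2 G)
    {Q : Subgroup G} (hQ : IsPGroup 2 Q) : Q ≤ (P : Subgroup G) := by
  haveI : Fact (Nat.Prime 2) := ⟨Nat.prime_two⟩
  obtain ⟨R, hR⟩ := hQ.exists_le_sylow
  haveI := Sylow.unique_of_normal P (h P)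
  rwa [Subsingleton.elim P R]

/-! ### Subgroups and quotients -/

section Inherit

variable {G : Type u} [Group G]

theorem Act.subgroup (h : Act π G) (M : Subgroup G) : Act π M := by
  intro p hp hpi P hP x hx hn a ha
  have hn' : (x : G) ∈ normalizer ((P.map M.subtype : Subgroup G) : Set G) := by
    refine mem_normalizer_iff.2 fun b => ⟨?_, fun hb => ?_⟩
    · rintro ⟨c, hc, rfl⟩
      exact ⟨x * c * x⁻¹, (mem_normalizer_iff.1 hn c).1 hc, by simp⟩
    · obtain ⟨c, hc, hcb⟩ := hb
      have hc' := (mem_normalizer_iff.1 (inv_mem hn) c).1 hc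
      refine ⟨_, hc', ?_⟩
      simp only [Subgroup.coe_subtype, Subgroup.coe_mul, InvMemClass.coe_inv] at hcb ⊢
      rw [hcb]
      group
  exact Subtype.ext (h p hp hpi (P.map M.subtype) (hP.map _) x (by rwa [Subgroup.orderOf_coe]) hn' a
    ⟨a, ha, rfl⟩)

theorem Cl.subgroup [Finite G] (h : Cl π G) (M : Subgroup G) : Cl π M := fun H hH => by
  have e := H.equivMapOfInjective M.subtype M.subtype_injective
  exact (h _ (by rwa [Nat.card_congr e.toEquiv.symm])).map e.symm.toMonoidHom e.symm.surjective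

variable [Finite G] (N : Subgroup G) [N.Normal]

/-- The inheritance of `Cl` by a quotient by a normal `π`-subgroup. -/
theorem Cl.quotient_pi (h : Cl π G) (hN : PiNum π (Nat.card N)) : Cl π (G ⧸ N) := fun H hH => by
  set f := QuotientGroup.mk' N with hf
  let g : ↥(H.comap f) →* ↥H := f.subgroupComap H
  have hg : Function.Surjective g := f.subgroupComap_surjective_of_surjective H
    (QuotientGroup.mk'_surjective N)
  refine (h _ ?_).map g hg
  have hc := g.ker.index_mul_card
  rw [index_ker, MonoidHom.range_eq_top.2 hg, card_top] at hc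
  rw [← hc]
  refine hH.mul (hN.of_dvd ?_)
  have : g.ker.map (H.comap f).subtype ≤ N := by
    rintro _ ⟨x, hx, rfl⟩
    exact (QuotientGroup.eq_one_iff _).1 (congrArg Subtype.val (MonoidHom.mem_ker.1 hx))
  have h' := card_dvd_of_le this
  rwa [Subgroup.card_map_of_injective (H.comap f).subtype_injective] at h'

/-- The inheritance of `Cl` by a quotient by a normal `π'`-subgroup. -/
theorem Cl.quotient_free (h : Cl π G) (hN : PiFree π (Nat.card N)) : Cl π (G ⧸ N) := fun H hH => by
  set f := QuotientGroup.mk' N with hf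
  set X := H.comap f with hX
  let g : ↥X →* ↥H := f.subgroupComap H
  have hg : Function.Surjective g := f.subgroupComap_surjective_of_surjective H
    (QuotientGroup.mk'_surjective N)
  have hk : Nat.card g.ker ∣ Nat.card N := by
    have : g.ker.map X.subtype ≤ N := by
      rintro _ ⟨x, hx, rfl⟩
      exact (QuotientGroup.eq_one_iff _).1 (congrArg Subtype.val (MonoidHom.mem_ker.1 hx))
    have h' := card_dvd_of_le this
    rwa [Subgroup.card_map_of_injective X.subtype_injective] at h'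
  have hi : g.ker.index = Nat.card H := by
    rw [index_ker, MonoidHom.range_eq_top.2 hg, card_top]
  obtain ⟨C, hC⟩ := exists_right_complement'_of_coprime (N := g.ker)
    (by rw [hi]; exact (hN.of_dvd hk).coprime hH)
  have hCH : Nat.card C = Nat.card H := by rw [← hi]; exact hC.symm.index_eq_card.symm
  have hbij : Function.Bijective (g.comp C.subtype) := by
    rw [Nat.bijective_iff_injective_and_card]
    refine ⟨(injective_iff_map_eq_one _).2 fun c hc => ?_, hCH⟩
    exact Subtype.ext (disjoint_def.1 hC.disjoint (MonoidHom.mem_ker.2 hc) c.2)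
  exact ((h.subgroup X) C (by rwa [hCH])).map _ hbij.2

/-- `Act` passes to every quotient. -/
theorem Act.quotient (h : Act π G) : Act π (G ⧸ N) := by
  intro p hp hpi P hP xb hxb hn ab hab
  haveI := Fact.mk hp
  set f := QuotientGroup.mk' N with hf
  obtain ⟨x, rfl⟩ := QuotientGroup.mk'_surjective N xb
  set X := P.comap f with hX
  let g : ↥X →* ↥P := f.subgroupComap P
  have hg : Function.Surjective g := f.subgroupComap_surjective_of_surjective P
    (QuotientGroup.mk'_surjective N)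
  obtain ⟨Q⟩ : Nonempty (Sylow p X) := Sylow.nonempty
  have hQP : ∀ b : P, ∃ s ∈ (Q : Subgroup X), g s = b := fun b => by
    have htop : ((Q.mapSurjective hg : Sylow p P) : Subgroup P) = ⊤ :=
      ((Q.mapSurjective hg).is_maximal' (hP.to_subgroup ⊤ : IsPGroup p (⊤ : Subgroup P)) le_top).symm
    obtain ⟨s, hs, hs'⟩ := htop.symm ▸ mem_top b
    exact ⟨s, hs, hs'⟩
  have hxX : ∀ a : G, a ∈ X ↔ x * a * x⁻¹ ∈ X := fun a => by
    rw [hX, mem_comap, mem_comap, map_mul, map_mul, map_inv]
    exact mem_normalizer_iff.1 hn (f a)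
  let φ : X ≃* X :=
    { toFun := fun a => ⟨x * a * x⁻¹, (hxX a).1 a.2⟩
      invFun := fun a => ⟨x⁻¹ * a * x, (hxX _).2 (by
        rw [show x * (x⁻¹ * (a : G) * x) * x⁻¹ = a by group]; exact a.2)⟩
      left_inv := fun a => Subtype.ext (show x⁻¹ * (x * (a : G) * x⁻¹) * x = a by group)
      right_inv := fun a => Subtype.ext (show x * (x⁻¹ * (a : G) * x) * x⁻¹ = a by group)
      map_mul' := fun a b => Subtype.ext (show x * ((a : G) * b) * x⁻¹ =
        x * (a : G) * x⁻¹ * (x * (b : G) * x⁻¹) by group) }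
  obtain ⟨c, hc⟩ := MulAction.exists_smul_eq X (Q.mapSurjective (f := φ.toMonoidHom) φ.surjective) Q
  obtain ⟨s, hs, hsc⟩ := hQP (g c)
  set y := (s : G)⁻¹ * c * x with hy
  have hymk : f y = f x := by
    have h1 : f (s : G) = f (c : G) := congrArg Subtype.val hsc
    rw [hy, map_mul, map_mul, map_inv, h1, inv_mul_cancel, one_mul]
  have hmove : ∀ a ∈ (Q : Subgroup X), y * (a : G) * y⁻¹ ∈ (Q : Subgroup X).map X.subtype := by
    intro a ha
    have h1 : c * φ a * c⁻¹ ∈ (Q : Subgroup X) := by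
      have h0 : c * φ a * c⁻¹ ∈
          ((c • (Q.mapSurjective (f := φ.toMonoidHom) φ.surjective) : Sylow p X) : Subgroup X) := by
        rw [Sylow.coe_subgroup_smul]
        exact ⟨φ a, ⟨a, ha, rfl⟩, rfl⟩
      rwa [hc] at h0
    refine ⟨s⁻¹ * (c * φ a * c⁻¹) * s, mul_mem (mul_mem (inv_mem hs) h1) hs, ?_⟩
    show (s : G)⁻¹ * ((c : G) * (x * a * x⁻¹) * (c : G)⁻¹) * s = _
    rw [hy]
    group
  have hyn : y ∈ normalizer (((Q : Subgroup X).map X.subtype : Subgroup G) : Set G) := by
    refine mem_normalizer_fintype fun b hb => ?_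
    obtain ⟨a, ha, rfl⟩ := hb
    exact hmove a ha
  have hyfree : PiFree π (orderOf (QuotientGroup.mk y : G ⧸ N)) := by
    show PiFree π (orderOf (f y)); rw [hymk]; exact hxb
  obtain ⟨i, hi, hi'⟩ := exists_pi_power N y hyfree
  have hcent := h p hp hpi _ (Q.2.map X.subtype) (y ^ i) hi (pow_mem hyn i)
  obtain ⟨s', hs', hsab⟩ := hQP ⟨ab, hab⟩
  have h2 := congrArg f (hcent s' ⟨s', hs', rfl⟩)
  have e1 : f (s' : G) = ab := congrArg Subtype.val hsab
  have e2 : f (y ^ i) = f x := hi'.trans hymk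
  rwa [map_mul, map_mul, e1, e2] at h2

end Inherit

end CfsgLib.PiClosed
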