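import Cfsg.Agent.PiClosed.Simple
import Cfsg.Agent.Classical.PSLTwoTorus
import Cfsg.Agent.Bender.StructureMain

/-!
# No strongly embedded subgroup

An involution inverts no element of odd prime order in `π`; so in a group with a strongly embedded
subgroup `H` the product of two involutions swapping two cosets is a `π'`-element, which centralizes
the regular normal 2-subgroup of `H` and so fixes all cosets.
-/

set_option autoImplicit false
set_option linter.unusedSectionVars false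
set_option linter.style.haveILetI false

namespace CfsgLib.PiClosed

open Subgroup

universe u

variable {π : Set ℕ} {G : Type u} [Group G] [Finite G]

/-- An involution inverts no element of odd prime order in `π`. -/
theorem not_inverted (h2 : 2 ∈ π) (hcl : Cl π G) {e w : G} {p : ℕ} (hp : p.Prime) (hp2 : p ≠ 2)
    (hpi : p ∈ π) (he : orderOf e = p) (hw : w * w = 1) : w * e * w⁻¹ ≠ e⁻¹ := by
  intro hinv
  haveI : Fact (Nat.Prime 2) := ⟨Nat.prime_two⟩
  have he2 : e * e ≠ 1 := fun h => by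
    have h1 := orderOf_dvd_of_pow_eq_one (x := e) (n := 2) (by rw [sq, h])
    rw [he] at h1
    exact hp2 ((Nat.prime_dvd_prime_iff_eq hp Nat.prime_two).1 h1)
  have hwe : w ∉ zpowers e := fun hz => he2 (by
    obtain ⟨i, hi⟩ := mem_zpowers_iff.1 hz
    rw [← hi, ((Commute.refl e).zpow_left i).eq, mul_inv_cancel_right] at hinv
    conv_lhs => arg 2; rw [hinv]
    exact mul_inv_cancel e)
  obtain ⟨D, heD, hwD, hD, -⟩ := Linear.PSLTwo.exists_dihedral e w hw hinv hwe
  have hnum : PiNum π (Nat.card D) := by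
    rw [hD, he]
    exact PiNum.mul (by simpa using piNum_prime_pow Nat.prime_two h2 1)
      (by simpa using piNum_prime_pow hp hpi 1)
  obtain ⟨P⟩ : Nonempty (Sylow 2 D) := Sylow.nonempty
  have hn := hcl D hnum P
  set w' : D := ⟨w, hwD⟩ with hw'
  set e' : D := ⟨e, heD⟩ with he'
  have hwP : w' ∈ (P : Subgroup D) := (hcl D hnum).le_sylow P
    (CfsgLib.FTRows.CyclicMeet.isPGroup_zpowers (k := 1) (Subtype.ext (by
      rw [pow_one, sq]; exact hw))) (mem_zpowers w')
  have hm : e' * w' * e'⁻¹ * w'⁻¹ ∈ (P : Subgroup D) :=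
    mul_mem (hn.conj_mem w' hwP e') (inv_mem hwP)
  have h1 : e' * w' * e'⁻¹ * w'⁻¹ = e' * e' := Subtype.ext (by
    show e * w * e⁻¹ * w⁻¹ = e * e
    have : w * e⁻¹ * w⁻¹ = e := by
      rw [show w * e⁻¹ * w⁻¹ = (w * e * w⁻¹)⁻¹ by group, hinv, inv_inv]
    calc e * w * e⁻¹ * w⁻¹ = e * (w * e⁻¹ * w⁻¹) := by group
      _ = e * e := by rw [this])
  rw [h1] at hm
  obtain ⟨k, hk⟩ := P.2 ⟨_, hm⟩
  have h2' : (e * e) ^ 2 ^ k = 1 := congrArg (fun x : D => (x : G)) (congrArg Subtype.val hk)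
  have h3 : p ∣ 2 ^ (k + 1) := by
    rw [← he]
    refine orderOf_dvd_of_pow_eq_one ?_
    rw [pow_succ', pow_mul, sq, h2']
  exact hp2 ((Nat.prime_dvd_prime_iff_eq hp Nat.prime_two).1 (hp.dvd_of_dvd_pow h3))

/-- An element of odd order inverted by an involution has `π'`-order. -/
theorem free_of_inverted (h2 : 2 ∈ π) (hcl : Cl π G) {d w : G} (ho : Odd (orderOf d))
    (hw : w * w = 1) (hinv : w * d * w⁻¹ = d⁻¹) : PiFree π (orderOf d) := by
  intro p hp hpd hpi
  have hp2 : p ≠ 2 := by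
    rintro rfl
    exact Nat.not_even_iff_odd.2 ho (even_iff_two_dvd.2 hpd)
  obtain ⟨j, hj⟩ := hpd
  have hj0 : j ≠ 0 := by
    rintro rfl
    exact (orderOf_pos d).ne' (by rw [hj, mul_zero])
  refine not_inverted h2 hcl hp hp2 hpi (e := d ^ j) ?_ hw ?_
  · rw [orderOf_pow' _ hj0, hj, Nat.gcd_eq_right (dvd_mul_left _ _),
      Nat.mul_div_cancel _ (Nat.pos_of_ne_zero hj0)]
  · rw [← inv_pow, ← hinv, conj_pow]

variable [IsSimpleGroup G]

/-- A simple group satisfying the two conditions has no strongly embedded subgroup. -/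
theorem no_strongly (h : Ctx π G) {H : Subgroup G} (hH : Cfsg.IsStronglyEmbedded H)
    (hp : Bender.PairRank G) : False := by
  classical
  haveI : Fact (Nat.Prime 2) := ⟨Nat.prime_two⟩
  have hO : Cfsg.oddCore G = ⊥ :=
    h.normal_eq_bot (DGroup.normal_oddCore G) (DGroup.odd_oddCore G)
  obtain ⟨T, hTH, hHT, hT, htr⟩ := Bender.Consumers.structure_all G H hH hO hp
  -- two involutions of `H`
  obtain ⟨a, ha, ha2⟩ := StrongEmbed.exists_invol hH
  obtain ⟨s, t, hs, ht, hst, hc⟩ := hp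
  obtain ⟨g, hg⟩ := isConj_iff.1 (StrongEmbed.isConj_of_invols hH hs ha2)
  have hbH : g * t * g⁻¹ ∈ H := StrongEmbed.mem_of_commute hH ha ha2 (by
    rw [← hg]
    show g * t * g⁻¹ * (g * s * g⁻¹) = g * s * g⁻¹ * (g * t * g⁻¹)
    calc g * t * g⁻¹ * (g * s * g⁻¹) = g * (t * s) * g⁻¹ := by group
      _ = g * (s * t) * g⁻¹ := by rw [hc.symm.eq]
      _ = _ := by group)
  have hab : a ≠ g * t * g⁻¹ := by
    rw [← hg]
    exact fun e => hst (mul_left_cancel (mul_right_cancel e))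
  have hb2 : orderOf (g * t * g⁻¹) = 2 := by rw [orderOf_conj, ht]
  obtain ⟨g₀, -, hg₀⟩ := SetLike.exists_of_lt (lt_top_iff_ne_top.2 hH.1)
  set x : G ⧸ H := QuotientGroup.mk 1 with hx
  set y : G ⧸ H := QuotientGroup.mk g₀ with hy
  have hxy : x ≠ y := fun e => hg₀ (by simpa using QuotientGroup.eq.1 e)
  have hcard : 2 ≤ Nat.card {i : G // orderOf i = 2 ∧ i • x = y} := by
    rw [StrongEmbed.card_swap hH hxy]
    haveI : Nontrivial {i : G // orderOf i = 2 ∧ i ∈ H} :=
      ⟨⟨⟨a, ha2, ha⟩, ⟨_, hb2, hbH⟩, fun e => hab (congrArg Subtype.val e)⟩⟩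
    exact Finite.one_lt_card
  haveI : Nontrivial {i : G // orderOf i = 2 ∧ i • x = y} :=
    Finite.one_lt_card_iff_nontrivial.1 hcard
  obtain ⟨⟨u, hu, hux⟩, ⟨u', hu', hu'x⟩, hne⟩ := exists_pair_ne {i : G // orderOf i = 2 ∧ i • x = y}
  have huu : u * u = 1 := Invol.mul_self_eq_one hu
  have hu'u' : u' * u' = 1 := Invol.mul_self_eq_one hu'
  have hne' : u ≠ u' := fun e => hne (Subtype.ext e)
  set d := u * u' with hd
  have hdx : d • x = x := by
    rw [hd, mul_smul, hu'x, ← hux, smul_smul, huu, one_smul]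
  have hdy : d • y = y := by
    have : u' • y = x := by rw [← hu'x, smul_smul, hu'u', one_smul]
    rw [hd, mul_smul, this, hux]
  have hdH : d ∈ H := StrongEmbed.smul_mk_one_iff.1 hdx
  have hd1 : d ≠ 1 := fun e => hne'
    ((inv_eq_of_mul_eq_one_right huu).symm.trans (inv_eq_of_mul_eq_one_right e))
  have hinv : u * d * u⁻¹ = d⁻¹ := by
    rw [hd, mul_inv_rev, ← mul_assoc u u, huu, one_mul, inv_eq_of_mul_eq_one_right huu,
      inv_eq_of_mul_eq_one_right hu'u']
  have huH : u ∉ H := fun e => hxy ((StrongEmbed.smul_mk_one_iff.2 e).symm.trans hux)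
  have hodd : Odd (orderOf d) := by
    refine (hH.2.2 u huH).of_dvd_nat (Subgroup.orderOf_dvd_natCard _ ?_)
    refine StrongEmbed.mem_inf_conj_iff.2 ⟨hdH, ?_⟩
    rw [show u⁻¹ * d * u = u * d * u⁻¹ by rw [inv_eq_of_mul_eq_one_right huu], hinv]
    exact inv_mem hdH
  have hfree := free_of_inverted h.two h.cl hodd huu hinv
  have hcent := h.act 2 Nat.prime_two h.two T hT d hfree (hHT hdH)
  have hall : ∀ c : G ⧸ H, d • c = c := fun c => by
    obtain ⟨g₁, rfl⟩ := QuotientGroup.mk_surjective c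
    by_cases hg₁ : g₁ ∈ H
    · rw [show (QuotientGroup.mk g₁ : G ⧸ H) = x from QuotientGroup.eq.2 (by simpa using hg₁)]
      exact hdx
    obtain ⟨w, hw, hwm⟩ := htr g₀ g₁ hg₀ hg₁
    have e : (QuotientGroup.mk g₁ : G ⧸ H) = w • y := by
      rw [hy, MulAction.Quotient.smul_mk, smul_eq_mul]
      exact QuotientGroup.eq.2 hwm
    rw [e, smul_smul, ← hcent w hw, mul_smul, hdy]
  have hmem : d ∈ H.normalCore := fun b => by
    have h1 := StrongEmbed.smul_mk_iff.1 (hall (QuotientGroup.mk b⁻¹))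
    rwa [inv_inv] at h1
  refine hd1 (mem_bot.1 ?_)
  rw [← (normalCore_normal H).eq_bot_or_eq_top.resolve_right fun e =>
    hH.1 (eq_top_iff.2 (e ▸ normalCore_le H))]
  exact hmem

end CfsgLib.PiClosed
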