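import Cfsg.Agent.CentralRankOne.Simple

/-!
# The strongly embedded subgroup of `PSU₃(2ⁿ)`
-/

set_option autoImplicit false
set_option linter.unusedSectionVars false
set_option linter.style.haveILetI false

namespace CfsgLib.PiClosed

open Subgroup
open CfsgLib.MinIdxPSU CfsgLib.MinIdxU3 CfsgLib.Unitary

universe u

/-- The image of the stabilizer of an isotropic point is strongly embedded. -/
theorem psu_strongly {L : Type u} [Group L] [Finite L] [IsSimpleGroup L]
    (hG : ¬ IsMulCommutative L) {F : Type} [Field F] [Fintype F] {n : ℕ} (hn : 2 ≤ n)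
    (hc : Fintype.card F = (2 ^ n) ^ 2) (e : L ≃* Cfsg.PSU 3 F (2 ^ n)) :
    ∃ H : Subgroup L, Cfsg.IsStronglyEmbedded H := by
  classical
  haveI : Fact (Nat.Prime 2) := ⟨Nat.prime_two⟩
  haveI : CharP F 2 := by
    have hc' : Fintype.card F = 2 ^ (n * 2) := by rw [hc, ← pow_mul]
    exact charP_of_card_eq_prime_pow hc'
  have hF : Nat.card F = (2 ^ n) ^ 2 := by rw [Nat.card_eq_fintype_card, hc]
  set q := 2 ^ n with hq
  have hq4 : 4 ≤ q := by
    calc 4 = 2 ^ 2 := by norm_num
      _ ≤ 2 ^ n := Nat.pow_le_pow_right (by norm_num) hn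
  have hqe : Even q := even_two.pow_of_ne_zero (by omega)
  set R := Rad (F := F) (q := q) hF with hR
  set B := Bor (F := F) (q := q) hF with hB
  have hidx : ¬ 2 ∣ R.index := by
    have h1 := R.card_mul_index
    rw [hR, card_Rad hF, card_G3 hF, mul_assoc] at h1
    rw [hR, Nat.eq_of_mul_eq_mul_left (pow_pos (by omega) 3) h1, Nat.prime_two.dvd_mul]
    rintro (h | h)
    · have h1 : 1 ≤ q ^ 2 := Nat.one_le_pow _ _ (by omega)
      have h2 : Odd (q ^ 2 - 1) := Nat.Even.sub_odd h1 (hqe.pow_of_ne_zero two_ne_zero) odd_one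
      exact Nat.not_even_iff_odd.2 h2 (even_iff_two_dvd.2 h)
    · exact Nat.not_even_iff_odd.2 ((hqe.pow_of_ne_zero three_ne_zero).add_one) (even_iff_two_dvd.2 h)
  have hRp : IsPGroup 2 R := IsPGroup.of_card (n := n * 3) (by
    rw [hR, card_Rad hF, hq, ← pow_mul])
  let P : Sylow 2 (G 1 F q) := hRp.toSylow hidx
  have hRB : R ≤ B := fun g hg => ((mem_Rad_iff hF).1 hg).1
  -- the centre fixes the point
  obtain ⟨r, hr, hr1⟩ : ∃ r ∈ R, r ≠ 1 := by
    by_contra hno
    push Not at hno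
    have h1 := card_Rad (F := F) (q := q) hF
    rw [← hR, (eq_bot_iff_forall R).2 hno, card_bot] at h1
    have := Nat.pow_le_pow_left hq4 3
    omega
  have hcB : center (G 1 F q) ≤ B := fun c hc => by
    refine MulAction.mem_stabilizer_iff.2 (fix_unique hF hr hr1 ?_)
    rw [smul_smul, mem_center_iff.1 hc r, mul_smul,
      MulAction.mem_stabilizer_iff.1 (hRB hr)]
  let f : G 1 F q →* L := e.symm.toMonoidHom.comp (QuotientGroup.mk' (center (G 1 F q)))
  have hf : Function.Surjective f := e.symm.surjective.comp (QuotientGroup.mk'_surjective _)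
  have hmem : ∀ g, f g ∈ B.map f → g ∈ B := by
    rintro g ⟨b, hb, hbg⟩
    have h1 : b⁻¹ * g ∈ center (G 1 F q) := QuotientGroup.eq.1 (e.symm.injective hbg)
    simpa using B.mul_mem hb (hcB h1)
  refine ⟨B.map f, fun htop => ?_, ?_, fun g hg => ?_⟩
  · have hall : ∀ g, g ∈ B := fun g => hmem g (htop ▸ mem_top _)
    haveI : R.Normal := ⟨fun a ha g => (gam_conj hF (hall g) ha).1⟩
    haveI : ((P.mapSurjective hf : Sylow 2 L) : Subgroup L).Normal :=
      (inferInstance : R.Normal).map f hf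
    exact CentralRankOne.normalizer_sylow_ne_top hG (P.mapSurjective hf)
      (normalizer_eq_top (H := ((P.mapSurjective hf : Sylow 2 L) : Subgroup L)))
  · refine even_iff_two_dvd.2 (((P.mapSurjective hf).dvd_card_of_dvd_card
      (even_iff_two_dvd.1 (Nat.not_odd_iff_even.1 (CentralRankOne.even_of_simple hG)))).trans
        (card_dvd_of_le ?_))
    exact map_mono hRB
  by_contra hev
  obtain ⟨⟨x, hx⟩, hxo⟩ := exists_prime_orderOf_dvd_card'
    (G := ↥(B.map f ⊓ (B.map f).map (MulAut.conj g).toMonoidHom)) 2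
    (even_iff_two_dvd.1 (Nat.not_odd_iff_even.1 hev))
  rw [Subgroup.orderOf_mk] at hxo
  obtain ⟨⟨b, hb, hbx⟩, x', hx', hxx'⟩ := hx
  obtain ⟨g₀, rfl⟩ := hf g
  obtain ⟨i, o, ho, hord⟩ := Nat.exists_eq_two_pow_mul_odd (orderOf_pos b).ne'
  set b' := b ^ o with hb'
  have hb'x : f b' = x := by
    rw [hb', map_pow, hbx]
    conv_lhs => rw [← Nat.div_add_mod o 2, Nat.odd_iff.1 ho, pow_add, pow_mul]
    rw [show x ^ 2 = 1 from hxo ▸ pow_orderOf_eq_one x, one_pow, one_mul, pow_one]
  have hb'B : b' ∈ B := pow_mem hb o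
  have hb'R : b' ∈ R := by
    refine FTRows.CyclicMeet.mem_of_normalizes P ?_ ?_
    · refine FTRows.CyclicMeet.isPGroup_zpowers (k := i) ?_
      rw [hb', ← pow_mul, mul_comm, ← hord, pow_orderOf_eq_one]
    · exact mem_normalizer_fintype fun a ha => (gam_conj hF hb'B ha).1
  have hb'1 : b' ≠ 1 := fun e' => CentralRankOne.ne_one_of_order_two hxo (by
    rw [← hb'x, e', map_one])
  refine hg ⟨g₀, MulAction.mem_stabilizer_iff.2 (fix_unique hF hb'R hb'1 ?_), rfl⟩
  have h1 : g₀⁻¹ * b' * g₀ ∈ B := hmem _ (by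
    rw [map_mul, map_mul, map_inv, hb'x, ← hxx']
    simpa [mul_assoc] using hx')
  have h2 := MulAction.mem_stabilizer_iff.1 h1
  rw [mul_smul, mul_smul, inv_smul_eq_iff] at h2
  exact h2

end CfsgLib.PiClosed
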