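import Cfsg.Agent.PiClosed.Endgame
import Cfsg.Agent.PiClosed.UnitaryEmbedded
import Cfsg.Agent.CentralRankOne.Transitive
import Cfsg.Agent.Classical.PSLTwo

/-!
# The configuration with all involutions of `S` central and `|Ω₁(Z(S))| = 4`

The groups of 2-rank two are `PSU₃(4)`, which has a strongly embedded subgroup, and `PSL₂(q)`,
where an involution inverts an element of order three and three is in `π`.
-/

set_option autoImplicit false
set_option linter.unusedSectionVars false
set_option linter.style.haveILetI false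

namespace CfsgLib.PiClosed

open Subgroup
open CfsgLib.CentralRankOne (omegaCenter omegaCenter_le commute_omegaCenter normalizer_conj_mem
  centerAut odd_range_centerAut mul_self_of_order_two U34Simple)

universe u

variable {π : Set ℕ} {G : Type u} [Group G] [Finite G] [IsSimpleGroup G]

/-- Three is in `π`, and divides the order of `G`. -/
theorem three_mem (h : Ctx π G) (S : Sylow 2 G) (h4 : Nat.card (omegaCenter S) = 4) :
    3 ∈ π ∧ 3 ∣ Nat.card G := by
  classical
  haveI : Fact (Nat.Prime 2) := ⟨Nat.prime_two⟩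
  haveI : Fact (Nat.Prime 3) := ⟨Nat.prime_three⟩
  set W := omegaCenter S with hW
  set N := normalizer ((S : Subgroup G) : Set G) with hN
  set ρ := centerAut S with hρ
  let ψ : MulAut W →* Equiv.Perm {w : W // w ≠ 1} :=
    { toFun := fun a => a.toEquiv.subtypeEquiv (fun w => by simp)
      map_one' := by ext; rfl
      map_mul' := fun a b => by ext; rfl }
  have hψ : Function.Injective ψ := (injective_iff_map_eq_one ψ).2 fun a ha => by
    refine MulEquiv.ext fun w => ?_
    by_cases hw : w = 1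
    · rw [hw, map_one, MulAut.one_apply]
    · exact congrArg Subtype.val (Equiv.congr_fun ha ⟨w, hw⟩)
  have hperm : Nat.card (Equiv.Perm {w : W // w ≠ 1}) = 6 := by
    rw [Nat.card_perm]
    have h3 : Nat.card {w : W // w ≠ 1} = 3 := by
      haveI := Fintype.ofFinite W
      rw [Nat.card_eq_fintype_card, Fintype.card_subtype_compl, Fintype.card_subtype_eq,
        ← Nat.card_eq_fintype_card, h4]
    rw [h3]
    rfl
  have h6 : Nat.card ρ.range ∣ 6 := hperm ▸
    Subgroup.card_dvd_of_injective (ψ.comp ρ.range.subtype) (hψ.comp ρ.range.subtype_injective)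
  have hne : Nat.card ρ.range ≠ 1 := fun h1 => by
    obtain ⟨z, hz, -, -, hz1, -, -⟩ := h.exists_two S
    obtain ⟨n, hn, hne⟩ := h.moves S hz hz1
    have h2 := (Subgroup.card_eq_one.1 h1 : ρ.range = ⊥)
    have h3 : ρ ⟨n, hn⟩ = 1 := mem_bot.1 (h2 ▸ ⟨⟨n, hn⟩, rfl⟩)
    exact hne (congrArg Subtype.val (MulEquiv.ext_iff.1 h3 ⟨z, hz⟩))
  have hcard : Nat.card ρ.range = 3 := by
    have hodd := odd_range_centerAut S
    rw [← hρ] at hodd
    have hle := Nat.le_of_dvd (by norm_num) h6
    interval_cases hc : Nat.card ρ.range <;> revert h6 hodd hne <;> decide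
  refine ⟨?_, ?_⟩
  swap
  · refine Dvd.dvd.trans ?_ N.card_subgroup_dvd_card
    exact hcard ▸ Subgroup.card_range_dvd ρ
  by_contra hpi
  obtain ⟨⟨_, ⟨n, rfl⟩⟩, hn⟩ := exists_prime_orderOf_dvd_card' (G := ρ.range) 3 (by rw [hcard])
  replace hn : orderOf (ρ n) = 3 := (Subgroup.orderOf_coe _).trans hn
  have hfree : PiFree π (orderOf (QuotientGroup.mk n : N ⧸ ρ.ker)) := by
    have h3 : orderOf (QuotientGroup.mk n : N ⧸ ρ.ker) ∣ 3 := by
      refine orderOf_dvd_of_pow_eq_one ?_
      rw [← QuotientGroup.mk_pow, QuotientGroup.eq_one_iff, MonoidHom.mem_ker, map_pow, ← hn,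
        pow_orderOf_eq_one]
    intro p hp hpd
    rwa [(Nat.prime_dvd_prime_iff_eq hp Nat.prime_three).1 (hpd.trans h3)]
  obtain ⟨i, hi, hi'⟩ := exists_pi_power ρ.ker n hfree
  have hρi : ρ (n ^ i) = ρ n := by
    have := QuotientGroup.eq.1 hi'
    rw [MonoidHom.mem_ker, map_mul, map_inv, inv_mul_eq_one] at this
    exact this
  rw [← hρi] at hn
  rw [← Subgroup.orderOf_coe] at hi
  have hc := h.act 2 Nat.prime_two h.two (S : Subgroup G) S.2 _ hi (n ^ i).2
  have h1 : ρ (n ^ i) = 1 := MulEquiv.ext fun w => Subtype.ext (by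
    show ((n ^ i : N) : G) * w * ((n ^ i : N) : G)⁻¹ = w
    rw [← hc w (omegaCenter_le w.2), mul_inv_cancel_right])
  rw [h1, orderOf_one] at hn
  exact absurd hn (by norm_num)

/-- `PSL₂(q)`, `q` odd, with an elementary Sylow 2-subgroup of order four, is excluded. -/
theorem not_psl (h : Ctx π G) (h3 : 3 ∈ π) (h3G : 3 ∣ Nat.card G) {F : Type} [Field F] [Fintype F]
    (h8 : Fintype.card F % 8 = 3 ∨ Fintype.card F % 8 = 5) (hq : 3 < Fintype.card F)
    (ι : G ≃* Matrix.ProjectiveSpecialLinearGroup (Fin 2) F) : False := by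
  classical
  obtain ⟨m, hp, hm⟩ := FiniteField.card F (ringChar F)
  haveI := Fact.mk hp
  haveI : CharP F (ringChar F) := ringChar.charP F
  haveI : Fact (Nat.Prime 3) := ⟨Nat.prime_three⟩
  have hqn : Nat.card F = Fintype.card F := Nat.card_eq_fintype_card
  -- an element whose order does not divide the characteristic is inverted
  have hinv : ∀ g : G, ¬ orderOf g ∣ ringChar F → ∃ w : G, w * w = 1 ∧ w * g * w⁻¹ = g⁻¹ := by
    intro g hg
    obtain ⟨w, hw, hwe⟩ := Linear.PSLTwo.exists_involution (ringChar F) (ι g)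
      (by rwa [MulEquiv.orderOf_eq])
    refine ⟨ι.symm w, ι.injective (by simpa using hw), ι.injective ?_⟩
    simpa using hwe
  have hbad : ∀ e w : G, orderOf e = 3 → w * w = 1 → w * e * w⁻¹ ≠ e⁻¹ := fun e w he hw =>
    not_inverted h.two h.cl Nat.prime_three (by norm_num) h3 he hw
  by_cases hp3 : ringChar F = 3
  swap
  · obtain ⟨e, he⟩ := exists_prime_orderOf_dvd_card' (G := G) 3 h3G
    obtain ⟨w, hw, hwe⟩ := hinv e (by
      rw [he]
      exact fun hd => hp3 ((Nat.prime_dvd_prime_iff_eq Nat.prime_three hp).1 hd).symm)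
    exact hbad e w he hw hwe
  have h83 : Fintype.card F % 8 = 3 := by
    have h13 : ∀ k : ℕ, 3 ^ k % 8 = 1 ∨ 3 ^ k % 8 = 3 := fun k => by
      induction k with
      | zero => simp
      | succ k ih => rw [pow_succ, Nat.mul_mod]; rcases ih with e | e <;> simp [e]
    have := h13 m
    rw [hm, hp3] at h8 ⊢
    omega
  have hodd : Odd (Fintype.card F) := by
    rw [Nat.odd_iff]
    omega
  set r₀ := (Fintype.card F - 1) / 2 with hr₀
  obtain ⟨r, hr, hrd⟩ := Nat.exists_prime_and_dvd (n := r₀) (by omega)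
  haveI := Fact.mk hr
  have hr2 : r ≠ 2 := by
    rintro rfl
    omega
  have hr3 : r ≠ 3 := by
    rintro rfl
    have h1 : 3 ∣ Fintype.card F - 1 := hrd.trans (Nat.div_dvd_of_dvd (by omega))
    have h2 : 3 ∣ Fintype.card F := by rw [hm, hp3]; exact dvd_pow_self _ m.pos.ne'
    omega
  obtain ⟨U⟩ : Nonempty (Sylow (ringChar F) (Dickson.PSL2 F)) := Sylow.nonempty
  have hNU := Linear.PSLTwo.card_normalizer (ringChar F) U
  rw [Linear.PSLTwo.gcd_eq_two (by rwa [hqn]), hqn, ← hr₀] at hNU
  obtain ⟨⟨x', hx'⟩, hxo⟩ := exists_prime_orderOf_dvd_card'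
    (G := normalizer ((U : Subgroup (Dickson.PSL2 F)) : Set (Dickson.PSL2 F))) r
    (by rw [hNU]; exact hrd.mul_left _)
  rw [Subgroup.orderOf_mk] at hxo
  set x := ι.symm x' with hx
  have hxr : orderOf x = r := by rw [hx, MulEquiv.orderOf_eq, hxo]
  have hxinv := hinv x (by
    rw [hxr, hp3]
    exact fun hd => hr3 ((Nat.prime_dvd_prime_iff_eq hr Nat.prime_three).1 hd))
  by_cases hrpi : r ∈ π
  · obtain ⟨w, hw, hwe⟩ := hxinv
    exact not_inverted h.two h.cl hr hr2 hrpi hxr hw hwe
  set U' := (U : Subgroup (Dickson.PSL2 F)).map ι.symm.toMonoidHom with hU'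
  have hxn : x ∈ normalizer (U' : Set G) := mem_normalizer_fintype (by
    rintro _ ⟨u, hu, rfl⟩
    refine ⟨_, (mem_normalizer_iff.1 hx' u).1 hu, ?_⟩
    simp [hx])
  have hU'3 : IsPGroup 3 U' := by
    have := U.2.map ι.symm.toMonoidHom
    convert this using 1
    rw [hp3]
  have hcent := h.act 3 Nat.prime_three h3 U' hU'3 x (by
    rw [hxr]
    intro q hq' hqd
    rwa [(Nat.prime_dvd_prime_iff_eq hq' hr).1 hqd]) hxn
  obtain ⟨⟨u, hu⟩, huo⟩ := exists_prime_orderOf_dvd_card' (G := U') 3 (by
    rw [hU', Subgroup.card_map_of_injective ι.symm.injective, ← hp3]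
    exact U.dvd_card_of_dvd_card (Linear.PSLTwo.dvd_card (ringChar F)))
  rw [Subgroup.orderOf_mk] at huo
  have hc : Commute u x := hcent u hu
  have hgo : orderOf (u * x) = 3 * r := by
    rw [hc.orderOf_mul_eq_mul_orderOf_of_coprime, huo, hxr]
    rw [huo, hxr]
    exact (Nat.coprime_primes Nat.prime_three hr).2 (Ne.symm hr3)
  obtain ⟨w, hw, hwe⟩ := hinv (u * x) (by
    rw [hgo, hp3]
    intro hd
    have := Nat.le_of_dvd (by norm_num) hd
    have := hr.two_le
    omega)
  refine hbad ((u * x) ^ r) w ?_ hw ?_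
  · rw [orderOf_pow' _ hr.ne_zero, hgo, Nat.gcd_eq_right (dvd_mul_left _ _),
      Nat.mul_div_cancel _ hr.pos]
  · rw [← inv_pow, ← hwe, conj_pow]

/-- The configuration of rank two is excluded. -/
theorem false_of_rank_two (hU : U34Simple.{u}) (h : Ctx π G) (S : Sylow 2 G)
    (hW : ∀ t ∈ (S : Subgroup G), t * t = 1 → t ∈ omegaCenter S)
    (h4 : Nat.card (omegaCenter S) = 4) (hr : Cfsg.PRankLE 2 2 G) (hpair : Bender.PairRank G) :
    False := by
  classical
  haveI : Fact (Nat.Prime 2) := ⟨Nat.prime_two⟩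
  have hG := h.nonab
  have hcent : ∀ p : (S : Subgroup G), p * p = 1 → ∀ q : (S : Subgroup G), q * p = p * q :=
    fun p hp q => Subtype.ext (commute_omegaCenter (hW p p.2 (congrArg Subtype.val hp)) q.2)
  letI : Fintype (GaloisField 2 4) := Fintype.ofFinite _
  have hF : Fintype.card (GaloisField 2 4) = 16 := by
    rw [← Nat.card_eq_fintype_card, GaloisField.card 2 4 (by norm_num)]; norm_num
  obtain ⟨P'⟩ : Nonempty (Sylow 2 (Cfsg.PSU 3 (GaloisField 2 4) 4)) := Sylow.nonempty
  rcases FTRows.simple_two_rank_two (fun X [_] [_] hX => Cfsg.Agent.S0205.result hX) hG hr S hF P'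
    with ⟨n, hn, ⟨e⟩⟩ | ⟨n, hn, -, a, b, ha, hb, hab⟩ | ⟨n, hn, -, a, b, t, ha, -, hdisj, ht, htab⟩ | hU'
  · have hc := hcent (e.symm (DihedralGroup.sr 0)) (by
      rw [← map_mul, DihedralGroup.sr_mul_self, map_one]) (e.symm (DihedralGroup.r 1))
    rw [← map_mul, ← map_mul, e.symm.injective.eq_iff, DihedralGroup.r_mul_sr,
      DihedralGroup.sr_mul_r] at hc
    have h2 : ((2 : ℕ) : ZMod n) = 0 := by
      have h3 : (0 : ZMod n) - 1 = 0 + 1 := DihedralGroup.sr.inj hc
      push_cast
      linear_combination -h3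
    rw [ZMod.natCast_eq_zero_iff] at h2
    have hn2 : n = 2 := le_antisymm (Nat.le_of_dvd two_pos h2) hn
    subst hn2
    have hc4 : Nat.card (S : Subgroup G) = 4 := by
      rw [Nat.card_congr e.toEquiv, DihedralGroup.nat_card]
    haveI : Group.IsPerfect G := ⟨(IsSimpleGroup.eq_bot_or_eq_top_of_normal _
      (inferInstance : (commutator G).Normal)).resolve_left fun h => hG ⟨⟨fun a b =>
        commutatorElement_eq_one_iff_mul_comm.1 (mem_bot.1 (h ▸ by
          rw [_root_.commutator_def]
          exact commutator_mem_commutator (mem_top a) (mem_top b)))⟩⟩⟩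
    have hO : Cfsg.oddCore G = ⊥ :=
      h.normal_eq_bot (DGroup.normal_oddCore G) (DGroup.odd_oddCore G)
    let bot : G ⧸ Cfsg.oddCore G ≃* G :=
      (QuotientGroup.quotientMulEquivOfEq hO).trans QuotientGroup.quotientBot
    obtain ⟨h3, h3G⟩ := three_mem h S h4
    rcases GW.Top.statement G S 2 le_rfl ⟨e⟩ with ⟨F, i1, i2, hodd, hq3, ⟨q⟩⟩ | ⟨⟨q⟩⟩
    · exact not_psl h h3 h3G (AbelianSolvCent.q_mod_eight hodd S hc4 (bot.symm.trans q)) hq3
        (bot.symm.trans q)
    · have h8 : 2 ^ 3 ∣ Nat.card G := by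
        rw [Nat.card_congr (bot.symm.trans q).toEquiv, Nat.card_eq_fintype_card,
          card_alternatingGroup, Fintype.card_fin]
        decide
      obtain ⟨B₀, hB₀⟩ := Sylow.exists_subgroup_card_pow_prime 2 h8
      obtain ⟨B, hB'⟩ := (IsPGroup.of_card hB₀).exists_le_sylow
      have hcard := card_dvd_of_le hB'
      rw [hB₀, Nat.card_congr (B.equiv S).toEquiv, hc4] at hcard
      norm_num at hcard
  · have hc := hcent b (mul_self_of_order_two hb) a
    rw [show b * a * b⁻¹ = a by rw [← hc, mul_inv_cancel_right]] at hab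
    obtain ⟨m, rfl⟩ : ∃ m, n = m + 3 := ⟨n - 3, by omega⟩
    rw [show m + 3 - 1 = m + 2 from rfl] at hab
    have h4' : 4 ≤ 2 ^ (m + 2) := by
      simpa using Nat.pow_le_pow_right (two_pos : 0 < 2) (show 2 ≤ m + 2 by omega)
    obtain ⟨r, hr'⟩ := Nat.exists_eq_add_of_le (show 1 ≤ 2 ^ (m + 2) - 1 by omega)
    rw [hr', pow_add, pow_one] at hab
    have h5 : a ^ r = 1 := mul_left_cancel (hab.symm.trans (mul_one a).symm)
    have h6 := Nat.le_of_dvd (by omega) (orderOf_dvd_of_pow_eq_one h5)
    rw [ha] at h6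
    have : 2 ^ (m + 2) ≤ 2 ^ (m + 3) := Nat.pow_le_pow_right two_pos (by omega)
    omega
  · have hc := hcent t (mul_self_of_order_two ht) a
    rw [show t * a * t⁻¹ = a by rw [← hc, mul_inv_cancel_right]] at htab
    subst htab
    rw [inf_idem, zpowers_eq_bot] at hdisj
    rw [hdisj, orderOf_one] at ha
    have := Nat.pow_le_pow_right (two_pos : 0 < 2) hn
    omega
  · obtain ⟨e⟩ := hU G (GaloisField 2 4) hF S P' hU'
    obtain ⟨H, hH⟩ := psu_strongly (F := GaloisField 2 4) hG (n := 2) le_rfl
      (by rw [hF]; norm_num) e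
    exact no_strongly h hH hpair

/-- The theorem for simple groups. -/
theorem simple_false (hU : U34Simple.{u}) (h : Ctx π G) : False := by
  classical
  haveI : Fact (Nat.Prime 2) := ⟨Nat.prime_two⟩
  obtain ⟨S⟩ : Nonempty (Sylow 2 G) := Sylow.nonempty
  obtain ⟨z, hz, y, hy, hz1, hy1, hzy⟩ := h.exists_two S
  set W := omegaCenter S with hW
  have hpair : Bender.PairRank G := ⟨z, y, CentralRankOne.orderOf_two hz.2.1 hz1,
    CentralRankOne.orderOf_two hy.2.1 hy1, hzy, commute_omegaCenter hy hz.1⟩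
  by_cases hA : ∃ A : Subgroup G, A ≤ (S : Subgroup G) ∧ W ≤ A ∧ (∀ a ∈ A, a * a = 1) ∧
      8 ≤ Nat.card A
  · obtain ⟨A, hAS, hWA, hA2, hA8⟩ := hA
    obtain ⟨H, hH⟩ := h.strongly S A hAS hWA hA2 hA8
    exact no_strongly h hH hpair
  push Not at hA
  have hW2 : ∀ a ∈ W, a * a = 1 := fun a ha => ha.2.1
  have h4 : Nat.card W = 4 := by
    obtain ⟨k, hk⟩ := IsPGroup.iff_card.1 (show IsPGroup 2 W from fun a => ⟨1, Subtype.ext (by
      rw [pow_one, sq]; exact hW2 a a.2)⟩)
    have hlt := hA W omegaCenter_le le_rfl hW2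
    have h2 : 2 < Nat.card W := by
      have h3 : ({1, z, y} : Set G).ncard ≤ (W : Set G).ncard := by
        refine Set.ncard_le_ncard ?_ (Set.toFinite _)
        rintro a (rfl | rfl | rfl)
        exacts [one_mem W, hz, hy]
      rw [Set.ncard_insert_of_notMem (by simp [Ne.symm hz1, Ne.symm hy1]),
        Set.ncard_pair hzy] at h3
      have h5 : (W : Set G).ncard = Nat.card W := (Nat.card_coe_set_eq _).symm
      omega
    rw [hk] at hlt h2 ⊢
    have hk3 : k < 3 := (Nat.pow_lt_pow_iff_right (by norm_num : 1 < 2)).1 (hlt.trans_eq (by norm_num))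
    obtain rfl : k = 2 := by interval_cases k <;> first | rfl | (norm_num at h2)
    norm_num
  have hall : ∀ t ∈ (S : Subgroup G), t * t = 1 → t ∈ W := by
    intro t ht ht2
    by_contra htW
    let A : Subgroup G :=
      { carrier := {x | x ∈ W ∨ t * x ∈ W}
        one_mem' := Or.inl (one_mem W)
        mul_mem' := by
          intro a b ha hb
          have hct : ∀ {w : G}, w ∈ W → w * t = t * w := fun hw => (commute_omegaCenter hw ht).symm
          rcases ha with ha | ha <;> rcases hb with hb | hb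
          · exact Or.inl (mul_mem ha hb)
          · refine Or.inr ?_
            rw [← mul_assoc, ← hct ha, mul_assoc]
            exact mul_mem ha hb
          · refine Or.inr ?_
            rw [← mul_assoc]
            exact mul_mem ha hb
          · refine Or.inl ?_
            have hc : a * t = t * a := by
              have := hct ha
              rw [mul_assoc] at this
              exact mul_left_cancel this
            have h1 : t * a * (t * b) = a * b := by
              rw [← hc, mul_assoc, ← mul_assoc t t b, ht2, one_mul]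
            exact h1 ▸ mul_mem ha hb
        inv_mem' := by
          rintro a (ha | ha)
          · exact Or.inl (inv_mem ha)
          · refine Or.inr ?_
            have h1 : (t * a) * t = t * (t * a) := (commute_omegaCenter ha ht).symm
            have h2 := inv_mem ha
            have hc : a * t = t * a := by
              rw [mul_assoc] at h1
              exact mul_left_cancel h1
            rw [show (t * a)⁻¹ = t * a⁻¹ by
              rw [← hc, mul_inv_rev, inv_eq_of_mul_eq_one_right ht2]] at h2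
            exact h2 }
    have hWA : W ≤ A := fun w hw => Or.inl hw
    have htA : t ∈ A := Or.inr (by rw [ht2]; exact one_mem W)
    have hA2 : ∀ a ∈ A, a * a = 1 := by
      rintro a (ha | ha)
      · exact hW2 a ha
      · have h1 : (t * a) * t = t * (t * a) := (commute_omegaCenter ha ht).symm
        rw [mul_assoc] at h1
        have hc : a * t = t * a := mul_left_cancel h1
        rw [show a * a = t * a * (t * a) by
          rw [mul_assoc t a, ← mul_assoc a t a, hc, mul_assoc, ← mul_assoc t t, ht2, one_mul]]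
        exact hW2 _ ha
    have hAS : A ≤ (S : Subgroup G) := by
      rintro a (ha | ha)
      · exact ha.1
      · simpa using mul_mem (inv_mem ht) ha.1
    have hlt := hA A hAS hWA hA2
    have hne : W ≠ A := fun e => htW (e ▸ htA)
    have h5 : Nat.card W < Nat.card A := lt_of_le_of_ne (card_le_of_le hWA) fun e =>
      hne (eq_of_le_of_card_ge hWA e.ge)
    obtain ⟨c, hc⟩ := card_dvd_of_le hWA
    rw [h4] at hc h5
    omega
  have hr : Cfsg.PRankLE 2 2 G := by
    by_contra hr
    unfold Cfsg.PRankLE at hr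
    push Not at hr
    obtain ⟨A, hAc, hA2, hA4⟩ := hr
    have hAp : IsPGroup 2 A := fun a => ⟨1, Subtype.ext (by simpa [pow_one] using hA2 a a.2)⟩
    obtain ⟨g, hg⟩ := exists_conj_sylow S hAp
    have hle : A.map (MulAut.conj g).toMonoidHom ≤ W := by
      rintro _ ⟨a, ha, rfl⟩
      refine hall _ (hg a ha) ?_
      rw [← map_mul, ← sq, hA2 a ha, map_one]
    have := card_le_of_le hle
    rw [Subgroup.card_map_of_injective (MulAut.conj g).injective] at this
    norm_num at hA4
    omega
  exact false_of_rank_two hU h S hall h4 hr hpair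

end CfsgLib.PiClosed
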