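import Cfsg.Agent.PiClosed.Basic
import Cfsg.Agent.Solvable.Basics
import Mathlib.GroupTheory.GroupAction.ConjAct
import Mathlib.GroupTheory.Solvable

/-!
# Reduction to simple groups
-/

set_option autoImplicit false
set_option linter.unusedSectionVars false
set_option linter.style.haveILetI false

namespace CfsgLib.PiClosed

open Subgroup
open scoped commutatorElement

universe u

/-- No nonabelian simple group satisfies the two conditions. -/
def SimpleFalse (π : Set ℕ) : Prop :=
  ∀ (G : Type u) [Group G] [Finite G] [IsSimpleGroup G], ¬ IsMulCommutative G → Cl π G → Act π G →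
    (∀ M : Subgroup G, M ≠ ⊤ → Closed π M) → False

variable {π : Set ℕ} {G : Type u} [Group G]

/-- The `π'`-elements of a closed subgroup, in the group. -/
theorem Closed.exists_sub {M : Subgroup G} (h : Closed π M) :
    ∃ K : Subgroup G, ∀ x : G, x ∈ K ↔ x ∈ M ∧ PiFree π (orderOf x) := by
  obtain ⟨K, hK⟩ := h
  refine ⟨K.map M.subtype, fun x => ⟨?_, fun hx => ⟨⟨x, hx.1⟩, (hK _).2 ?_, rfl⟩⟩⟩
  · rintro ⟨y, hy, rfl⟩
    refine ⟨y.2, ?_⟩
    rw [Subgroup.coe_subtype, Subgroup.orderOf_coe]
    exact (hK y).1 hy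
  · rw [Subgroup.orderOf_mk]
    exact hx.2

variable [Finite G]

/-- Closure passes up from the quotient by a normal `π'`-subgroup. -/
theorem closed_of_quotient_free (N : Subgroup G) [N.Normal] (hN : PiFree π (Nat.card N))
    (h : Closed π (G ⧸ N)) : Closed π G := by
  obtain ⟨K, hK⟩ := h
  refine ⟨K.comap (QuotientGroup.mk' N), fun x => ?_⟩
  rw [mem_comap, hK]
  refine ⟨fun hx => ?_, fun hx => hx.of_dvd (orderOf_map_dvd _ x)⟩
  set d := orderOf ((QuotientGroup.mk' N) x) with hd
  have hm : x ^ d ∈ N := (QuotientGroup.eq_one_iff _).1 (by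
    show (QuotientGroup.mk' N) (x ^ d) = 1
    rw [map_pow, hd, pow_orderOf_eq_one])
  refine (hx.mul hN).of_dvd (orderOf_dvd_of_pow_eq_one ?_)
  rw [pow_mul]
  exact congrArg Subtype.val (pow_card_eq_one' (x := (⟨_, hm⟩ : N)))

/-- A nontrivial normal subgroup with no `π'`-elements gives a normal `p`-subgroup. -/
theorem exists_normal_p (h2 : 2 ∈ π) (hcl : Cl π G) (N : Subgroup G) [N.Normal] (hN : N ≠ ⊥)
    (hfree : ∀ x ∈ N, PiFree π (orderOf x) → x = 1) :
    ∃ p, p.Prime ∧ p ∈ π ∧ ∃ P : Subgroup G, P.Normal ∧ IsPGroup p P ∧ P ≠ ⊥ ∧ P ≤ N := by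
  classical
  haveI : Fact (Nat.Prime 2) := ⟨Nat.prime_two⟩
  have hnum : PiNum π (Nat.card N) := piNum_card hfree
  by_cases h2N : 2 ∣ Nat.card N
  · obtain ⟨P⟩ : Nonempty (Sylow 2 N) := Sylow.nonempty
    haveI := P.characteristic_of_normal (hcl N hnum P)
    refine ⟨2, Nat.prime_two, h2, (P : Subgroup N).map N.subtype, inferInstance, P.2.map _, ?_,
      map_subtype_le _⟩
    intro e
    exact Sylow.ne_bot_of_dvd_card P h2N ((map_eq_bot_iff_of_injective _ N.subtype_injective).1 e)
  obtain ⟨M, hM, hM1, hMN, hmin⟩ := CfsgLib.Solvable.exists_minimal_normal_le hN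
  haveI := hM
  have hMd := card_dvd_of_le hMN
  haveI hsol : Group.IsSolvable M := Cfsg.Agent.S0205.result
    (Nat.not_even_iff_odd.1 fun he => h2N ((even_iff_two_dvd.1 he).trans hMd))
  haveI : Nontrivial M := (nontrivial_iff_ne_bot M).2 hM1
  have hcomm : (_root_.commutator M).map M.subtype = ⊥ := by
    haveI : (_root_.commutator M).Characteristic := inferInstance
    refine (hmin _ inferInstance (map_subtype_le _)).resolve_right fun e => ?_
    refine Group.IsSolvable.commutator_lt_top_of_nontrivial M |>.ne (eq_top_iff.2 fun a _ => ?_)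
    obtain ⟨b, hb, hba⟩ : (a : G) ∈ (_root_.commutator M).map M.subtype := by rw [e]; exact a.2
    rwa [← Subtype.ext hba]
  have hab : ∀ a b : M, a * b = b * a := fun a b => commutatorElement_eq_one_iff_mul_comm.1 (by
    have hm : ⁅a, b⁆ ∈ _root_.commutator M := by
      rw [_root_.commutator_def]
      exact commutator_mem_commutator (mem_top a) (mem_top b)
    exact Subtype.ext (mem_bot.1 (hcomm ▸ mem_map_of_mem M.subtype hm)))
  obtain ⟨p, hp, hpM⟩ := Nat.exists_prime_and_dvd (n := Nat.card M)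
    (by have := Finite.one_lt_card (α := M); omega)
  haveI := Fact.mk hp
  obtain ⟨P⟩ : Nonempty (Sylow p M) := Sylow.nonempty
  haveI := P.characteristic_of_normal ⟨fun a ha g => by rwa [hab g a, mul_inv_cancel_right]⟩
  refine ⟨p, hp, hnum p hp (hpM.trans hMd), (P : Subgroup M).map M.subtype, inferInstance,
    P.2.map _, ?_, (map_subtype_le _).trans hMN⟩
  intro e
  exact Sylow.ne_bot_of_dvd_card P hpM ((map_eq_bot_iff_of_injective _ M.subtype_injective).1 e)

/-- Closure passes up from the quotient by a central `p`-subgroup, `p` in `π`. -/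
theorem closed_of_quotient_central (P : Subgroup G) [P.Normal]
    (hP : PiNum π (Nat.card P)) (hc : ∀ a ∈ P, ∀ g : G, a * g = g * a) (h : Closed π (G ⧸ P)) :
    Closed π G := by
  obtain ⟨K, hK⟩ := h
  set f := QuotientGroup.mk' P with hf
  set X := K.comap f with hX
  let g : ↥X →* ↥K := f.subgroupComap K
  have hg : Function.Surjective g := f.subgroupComap_surjective_of_surjective K
    (QuotientGroup.mk'_surjective P)
  have hker : g.ker.map X.subtype ≤ P := by
    rintro _ ⟨x, hx, rfl⟩
    exact (QuotientGroup.eq_one_iff _).1 (congrArg Subtype.val (MonoidHom.mem_ker.1 hx))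
  have hk : Nat.card g.ker ∣ Nat.card P := by
    have h' := card_dvd_of_le hker
    rwa [Subgroup.card_map_of_injective X.subtype_injective] at h'
  have hi : g.ker.index = Nat.card K := by
    rw [index_ker, MonoidHom.range_eq_top.2 hg, card_top]
  have hKfree : PiFree π (Nat.card K) := piFree_card fun x hx => (hK x).1 hx
  obtain ⟨C, hC⟩ := exists_right_complement'_of_coprime (N := g.ker)
    (by rw [hi]; exact ((hKfree.coprime (hP.of_dvd hk))).symm)
  have hinj : ∀ c ∈ C, g c = 1 → c = 1 := fun c hc' h1 =>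
    disjoint_def.1 hC.disjoint (MonoidHom.mem_ker.2 h1) hc'
  refine ⟨C.map X.subtype, fun y => ⟨?_, fun hy => ?_⟩⟩
  · rintro ⟨c, hc', rfl⟩
    rw [Subgroup.coe_subtype, Subgroup.orderOf_coe]
    have h1 : orderOf c ∣ orderOf (g c) := orderOf_dvd_of_pow_eq_one (hinj _ (pow_mem hc' _)
      (by rw [map_pow, pow_orderOf_eq_one]))
    exact hKfree.of_dvd (h1.trans (orderOf_dvd_natCard _))
  have hyX : y ∈ X := by
    rw [hX, mem_comap, hK]
    exact hy.of_dvd (orderOf_map_dvd _ y)
  obtain ⟨⟨a, c⟩, hac, -⟩ := (hC.existsUnique (⟨y, hyX⟩ : X))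
  have haP : ((a : X) : G) ∈ P := hker ⟨(a : X), a.2, rfl⟩
  have hy' : y = ((a : X) : G) * ((c : X) : G) := (congrArg Subtype.val hac).symm
  have hcfree : PiFree π (orderOf ((c : X) : G)) := by
    rw [Subgroup.orderOf_coe]
    have h1 : orderOf (c : X) ∣ orderOf (g (c : X)) := orderOf_dvd_of_pow_eq_one
      (hinj _ (pow_mem c.2 _) (by rw [map_pow, pow_orderOf_eq_one]))
    exact hKfree.of_dvd (h1.trans (orderOf_dvd_natCard _))
  have ha1 : ((a : X) : G) = 1 := by
    have e : ((a : X) : G) = y * ((c : X) : G)⁻¹ := by rw [hy', mul_inv_cancel_right]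
    have hcy : Commute y ((c : X) : G)⁻¹ := by
      rw [hy']
      exact (Commute.mul_left (show Commute ((a : X) : G) ((c : X) : G)⁻¹ from hc _ haP _)
        (Commute.refl ((c : X) : G)).inv_right)
    rw [← orderOf_eq_one_iff]
    refine PiFree.eq_one ?_ (hP.of_dvd ((Subgroup.orderOf_mk _ haP).symm ▸ orderOf_dvd_natCard _))
    rw [e]
    refine (hy.mul hcfree).of_dvd ((hcy.orderOf_mul_dvd_mul_orderOf).trans ?_)
    rw [orderOf_inv]
  exact ⟨c, c.2, by rw [Subgroup.coe_subtype, hy', ha1, one_mul]⟩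

/-- In an abelian group the `π'`-elements form a subgroup. -/
theorem closed_of_comm (hc : ∀ a b : G, a * b = b * a) : Closed π G :=
  ⟨{ carrier := {x | PiFree π (orderOf x)}
     one_mem' := by
       show PiFree π (orderOf (1 : G))
       rw [orderOf_one]
       exact piFree_one
     mul_mem' := fun {a b} (ha : PiFree π (orderOf a)) (hb : PiFree π (orderOf b)) =>
       (ha.mul hb).of_dvd (Commute.orderOf_mul_dvd_mul_orderOf (show Commute a b from hc a b))
     inv_mem' := fun {a} (ha : PiFree π (orderOf a)) => by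
       show PiFree π (orderOf a⁻¹)
       rwa [orderOf_inv] }, fun _ => Iff.rfl⟩

omit [Finite G] in
/-- The main induction. -/
theorem closed_all (h2 : 2 ∈ π) (hS : SimpleFalse.{u} π) :
    ∀ (n : ℕ) (G : Type u) [Group G] [Finite G], Nat.card G ≤ n → Cl π G → Act π G → Closed π G := by
  intro n
  induction n with
  | zero =>
    intro G _ _ hn
    exact absurd Nat.card_pos (Nat.not_lt.2 hn)
  | succ n ih =>
    intro G _ _ hn hcl hact
    classical
    have hquot : ∀ (N : Subgroup G) [N.Normal], N ≠ ⊥ → Cl π (G ⧸ N) → Closed π (G ⧸ N) := by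
      intro N _ hN hq
      refine ih _ ?_ hq (hact.quotient N)
      have h1 := N.card_eq_card_quotient_mul_card_subgroup
      have h3 : 1 < Nat.card N := N.one_lt_card_iff_ne_bot.2 hN
      have h4 : 0 < Nat.card (G ⧸ N) := Nat.card_pos
      nlinarith
    have hsub : ∀ M : Subgroup G, M ≠ ⊤ → Closed π M := by
      intro M hM
      refine ih M ?_ (hcl.subgroup M) (hact.subgroup M)
      have h1 : Nat.card M < Nat.card G := by
        refine lt_of_le_of_ne M.card_le_card_group fun e => hM ((M.card_eq_iff_eq_top).1 e)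
      omega
    by_cases hK : ∃ N : Subgroup G, N.Normal ∧ N ≠ ⊥ ∧ PiFree π (Nat.card N)
    · obtain ⟨N, hNn, hN1, hNf⟩ := hK
      exact closed_of_quotient_free N hNf (hquot N hN1 (hcl.quotient_free N hNf))
    push Not at hK
    by_cases hsimple : ∃ N : Subgroup G, N.Normal ∧ N ≠ ⊥ ∧ N ≠ ⊤
    · obtain ⟨N, hNn, hN1, hNt⟩ := hsimple
      obtain ⟨KN, hKN⟩ := (hsub N hNt).exists_sub
      have hKn : KN.Normal := ⟨fun a ha g => by
        rw [hKN, orderOf_conj]
        exact ⟨hNn.conj_mem a ((hKN a).1 ha).1 g, ((hKN a).1 ha).2⟩⟩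
      have hKbot : KN = ⊥ := by
        by_contra h
        exact hK KN hKn h (piFree_card fun x hx => ((hKN x).1 hx).2)
      obtain ⟨p, hp, hpi, P, hPn, hPp, hP1, hPN⟩ := exists_normal_p h2 hcl N hN1 fun x hx hf => by
        have := (hKN x).2 ⟨hx, hf⟩
        rwa [hKbot, mem_bot] at this
      have hcent : ∀ x : G, PiFree π (orderOf x) → x ∈ centralizer (P : Set G) := fun x hx =>
        mem_centralizer_iff.2 (hact p hp hpi P hPp x hx
          (by rw [normalizer_eq_top (H := P)]; exact mem_top x))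
      by_cases hC : centralizer (P : Set G) = ⊤
      · have hc : ∀ a ∈ P, ∀ g : G, a * g = g * a := fun a ha g =>
          mem_centralizer_iff.1 (hC.symm ▸ mem_top g : g ∈ centralizer (P : Set G)) a ha
        have hnum := piNum_of_isPGroup hp hpi hPp
        exact closed_of_quotient_central P hnum hc (hquot P hP1 (hcl.quotient_pi P hnum))
      · obtain ⟨K, hK'⟩ := (hsub _ hC).exists_sub
        exact ⟨K, fun x => ⟨fun hx => ((hK' x).1 hx).2, fun hx => (hK' x).2 ⟨hcent x hx, hx⟩⟩⟩
    push Not at hsimple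
    rcases subsingleton_or_nontrivial G with hs | hs
    · exact closed_of_comm fun a b => Subsingleton.elim _ _
    haveI : IsSimpleGroup G := ⟨fun H hH => or_iff_not_imp_left.2 (hsimple H hH)⟩
    by_cases hG : IsMulCommutative G
    · exact closed_of_comm fun a b => hG.is_comm.comm a b
    exact (hS G hG hcl hact hsub).elim

end CfsgLib.PiClosed
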