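import Cfsg.Agent.PiClosed.RankTwo

/-!
# The `π'`-elements form a subgroup iff the `π`-locals act as `π`-groups
-/

set_option autoImplicit false
set_option linter.unusedSectionVars false
set_option linter.style.haveILetI false

namespace CfsgLib.PiClosed

open Subgroup
open CfsgLib.CentralRankOne (U34Simple)

universe u

variable {π : Set ℕ} {G : Type u} [Group G] [Finite G]

theorem loc_pi_of_closed (h : Closed π G) {H : Subgroup G} (hH : PiNum π (Nat.card H)) {p : ℕ}
    (hp : p.Prime)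
    (hd : p ∣ (centralizer (H : Set G)).relIndex (normalizer (H : Set G))) : p ∈ π := by
  haveI := Fact.mk hp
  by_contra hpi
  obtain ⟨K, hK⟩ := h
  set N := normalizer (H : Set G) with hN
  obtain ⟨P⟩ : Nonempty (Sylow p N) := Sylow.nonempty
  refine P.not_dvd_index (hd.trans (index_dvd_of_le fun x hx => ?_))
  obtain ⟨k, hk⟩ := P.2 ⟨x, hx⟩
  have hxK : (x : G) ∈ K := by
    rw [hK, Subgroup.orderOf_coe]
    intro q hq hqd
    have h1 : orderOf x ∣ p ^ k := orderOf_dvd_of_pow_eq_one (congrArg Subtype.val hk)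
    rwa [(Nat.prime_dvd_prime_iff_eq hq hp).1 (hq.dvd_of_dvd_pow (hqd.trans h1))]
  refine mem_centralizer_iff.2 fun a ha => ?_
  have h1 : (x : G) * a * (x : G)⁻¹ * a⁻¹ ∈ H := mul_mem ((mem_normalizer_iff.1 x.2 a).1 ha) (inv_mem ha)
  have h2 : (x : G) * a * (x : G)⁻¹ * a⁻¹ ∈ K := by
    rw [show (x : G) * a * (x : G)⁻¹ * a⁻¹ = x * (a * (x : G)⁻¹ * a⁻¹) by group]
    exact mul_mem hxK (Closed.conj_mem hK (inv_mem hxK))
  have h3 : orderOf ((x : G) * a * (x : G)⁻¹ * a⁻¹) = 1 :=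
    ((hK _).1 h2).eq_one (hH.of_dvd (Subgroup.orderOf_dvd_natCard _ h1))
  rw [orderOf_eq_one_iff, mul_inv_eq_one, mul_inv_eq_iff_eq_mul] at h3
  exact h3.symm

theorem act_of_loc (hloc : ∀ H : Subgroup G, H ≠ ⊥ → PiNum π (Nat.card H) →
    PiNum π ((centralizer (H : Set G)).relIndex (normalizer (H : Set G)))) : Act π G := by
  intro p hp hpi P hP x hx hn a ha
  by_cases hP1 : P = ⊥
  · rw [hP1, mem_bot] at ha
    rw [ha, one_mul, mul_one]
  set N := normalizer (P : Set G) with hN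
  set C := (centralizer (P : Set G)).subgroupOf N with hC
  haveI : C.Normal := ⟨fun c hc g => mem_centralizer_iff.2 fun b hb => by
    have h1 := mem_centralizer_iff.1 (show (c : G) ∈ centralizer (P : Set G) from hc) _
      ((mem_normalizer_iff.1 (inv_mem g.2) b).1 hb)
    rw [inv_inv] at h1
    show b * ((g : G) * c * (g : G)⁻¹) = (g : G) * c * (g : G)⁻¹ * b
    calc b * ((g : G) * c * (g : G)⁻¹) = g * ((g : G)⁻¹ * b * g * c) * (g : G)⁻¹ := by group
      _ = g * (c * ((g : G)⁻¹ * b * g)) * (g : G)⁻¹ := by rw [h1]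
      _ = (g : G) * c * (g : G)⁻¹ * b := by group⟩
  have h1 : (⟨x, hn⟩ : N) ^ C.index ∈ C := pow_index_mem C _
  have h2 : (⟨x, hn⟩ : N) ^ orderOf x ∈ C := by
    rw [show (⟨x, hn⟩ : N) ^ orderOf x = 1 from Subtype.ext (pow_orderOf_eq_one x)]
    exact one_mem C
  have h3 : Nat.Coprime (orderOf x) C.index :=
    hx.coprime (hloc P hP1 (piNum_of_isPGroup hp hpi hP))
  have h4 : (⟨x, hn⟩ : N) ∈ C := by
    have hz : (QuotientGroup.mk ⟨x, hn⟩ : N ⧸ C) = 1 := by
      rw [← orderOf_eq_one_iff]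
      refine Nat.eq_one_of_dvd_coprimes h3 (orderOf_dvd_of_pow_eq_one ?_)
        (orderOf_dvd_of_pow_eq_one ?_)
      · rw [← QuotientGroup.mk_pow]; exact (QuotientGroup.eq_one_iff _).2 h2
      · rw [← QuotientGroup.mk_pow]; exact (QuotientGroup.eq_one_iff _).2 h1
    exact (QuotientGroup.eq_one_iff _).1 hz
  exact mem_centralizer_iff.1 (show x ∈ centralizer (P : Set G) from h4) a ha

/-- The theorem, given the characterisation of `PSU₃(4)`. -/
theorem pi_homogeneous_row (hU : U34Simple.{u}) (π : Set ℕ) (h2 : 2 ∈ π) {G : Type u} [Group G]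
    [Finite G] (hcl : Cl π G) :
    Closed π G ↔ ∀ H : Subgroup G, H ≠ ⊥ → PiNum π (Nat.card H) →
      PiNum π ((centralizer (H : Set G)).relIndex (normalizer (H : Set G))) := by
  refine ⟨fun h H _ hH p hp hd => loc_pi_of_closed h hH hp hd, fun hloc => ?_⟩
  refine closed_all h2 ?_ _ G le_rfl hcl (act_of_loc hloc)
  intro L _ _ _ hL hclL hactL hsub
  exact simple_false hU ⟨h2, hclL, hactL, hsub, hL⟩

end CfsgLib.PiClosed
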