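import Cfsg.Agent.PiClosed.Reduce
import Cfsg.Agent.CentralRankOne.Simple
import Cfsg.Agent.S0217

/-!
# Fusion and a strongly embedded subgroup in a simple group

In a simple group whose proper subgroups are `π'`-closed and whose local subgroups act well, the
normalizer of a Sylow 2-subgroup `S` controls the fusion in `S`; with an elementary subgroup of
order eight containing `Ω₁(Z(S))` the signalizer functor gives a strongly embedded subgroup.
-/

set_option autoImplicit false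
set_option linter.unusedSectionVars false
set_option linter.style.haveILetI false

namespace CfsgLib.PiClosed

open Subgroup
open scoped Pointwise
open CfsgLib.CentralRankOne (omegaCenter omegaCenter_le commute_omegaCenter normalizer_conj_mem
  normalizer_sylow_ne_top even_of_simple exists_omegaCenter)

universe u

/-- The configuration of the minimal counterexample. -/
structure Ctx (π : Set ℕ) (G : Type u) [Group G] : Prop where
  two : 2 ∈ π
  cl : Cl π G
  act : Act π G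
  sub : ∀ M : Subgroup G, M ≠ ⊤ → Closed π M
  nonab : ¬ IsMulCommutative G

/-- `N(S)` controls the action on `D`. -/
def Fus {G : Type u} [Group G] (S : Sylow 2 G) (D : Subgroup G) : Prop :=
  ∀ g : G, (∀ d ∈ D, g * d * g⁻¹ ∈ (S : Subgroup G)) →
    ∃ n ∈ normalizer ((S : Subgroup G) : Set G), ∀ d ∈ D, n * d * n⁻¹ = g * d * g⁻¹

variable {π : Set ℕ} {G : Type u} [Group G] [Finite G]

/-- A maximal 2-subgroup of `M` as a Sylow subgroup of `M`. -/
def sylowIn {M R : Subgroup G} (hRM : R ≤ M) (hR : IsPGroup 2 R)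
    (hmax : ∀ Q : Subgroup G, R ≤ Q → Q ≤ M → IsPGroup 2 Q → Q ≤ R) : Sylow 2 M where
  toSubgroup := R.subgroupOf M
  isPGroup' := hR.comap_subtype
  is_maximal' := fun {Q} hQ hle => le_antisymm (fun x hx =>
    hmax (Q.map M.subtype) (fun r hr => ⟨⟨r, hRM hr⟩, hle hr, rfl⟩) (map_subtype_le _) (hQ.map _)
      ⟨x, hx, rfl⟩) hle

/-- A 2-subgroup of `M` is moved into a maximal one. -/
theorem conj_into {M R P : Subgroup G} (hRM : R ≤ M) (hR : IsPGroup 2 R)
    (hmax : ∀ Q : Subgroup G, R ≤ Q → Q ≤ M → IsPGroup 2 Q → Q ≤ R) (hPM : P ≤ M)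
    (hP : IsPGroup 2 P) : ∃ m ∈ M, ∀ a ∈ P, m * a * m⁻¹ ∈ R := by
  haveI : Fact (Nat.Prime 2) := ⟨Nat.prime_two⟩
  obtain ⟨Q, hQ⟩ := (hP.comap_subtype : IsPGroup 2 (P.subgroupOf M)).exists_le_sylow
  obtain ⟨m, hm⟩ := MulAction.exists_smul_eq M Q (sylowIn hRM hR hmax)
  refine ⟨m, m.2, fun a ha => ?_⟩
  have h1 : m * ⟨a, hPM ha⟩ * m⁻¹ ∈ ((m • Q : Sylow 2 M) : Subgroup M) := by
    rw [Sylow.coe_subgroup_smul]
    exact ⟨⟨a, hPM ha⟩, hQ ha, rfl⟩
  rw [hm] at h1
  exact h1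

/-- A 2-subgroup is moved into `S`. -/
theorem exists_conj_sylow (S : Sylow 2 G) {P : Subgroup G} (hP : IsPGroup 2 P) :
    ∃ h : G, ∀ a ∈ P, h * a * h⁻¹ ∈ (S : Subgroup G) := by
  haveI : Fact (Nat.Prime 2) := ⟨Nat.prime_two⟩
  obtain ⟨Q, hQ⟩ := hP.exists_le_sylow
  obtain ⟨h, hh⟩ := MulAction.exists_smul_eq G Q S
  refine ⟨h, fun a ha => ?_⟩
  rw [← hh, Sylow.coe_subgroup_smul]
  exact ⟨a, hQ ha, rfl⟩

/-- If `N(S)` controls the action on `S ⊓ X`, and `X` contains its centralizer, then `S ⊓ X` is a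
Sylow 2-subgroup of `X`. -/
theorem sylow_inter (S : Sylow 2 G) {X : Subgroup G}
    (hX : ∀ c : G, (∀ a ∈ (S : Subgroup G) ⊓ X, c * a = a * c) → c ∈ X)
    (hf : Fus S ((S : Subgroup G) ⊓ X)) :
    ∀ Q : Subgroup G, (S : Subgroup G) ⊓ X ≤ Q → Q ≤ X → IsPGroup 2 Q →
      Q ≤ (S : Subgroup G) ⊓ X := by
  intro Q hle hQX hQ
  obtain ⟨h, hh⟩ := exists_conj_sylow S hQ
  obtain ⟨n, hn, hne⟩ := hf h fun a ha => hh a (hle ha)
  set c := n⁻¹ * h with hc
  have hcX : c ∈ X := hX c fun a ha => by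
    calc c * a = n⁻¹ * (h * a * h⁻¹) * h := by rw [hc]; group
      _ = n⁻¹ * (n * a * n⁻¹) * h := by rw [hne a ha]
      _ = a * c := by rw [hc]; group
  have hmap : Q.map (MulAut.conj c).toMonoidHom ≤ (S : Subgroup G) ⊓ X := by
    rintro _ ⟨a, ha, rfl⟩
    refine ⟨?_, X.mul_mem (X.mul_mem hcX (hQX ha)) (X.inv_mem hcX)⟩
    show c * a * c⁻¹ ∈ (S : Subgroup G)
    have h1 := (mem_normalizer_iff.1 (inv_mem hn) _).1 (hh a ha)
    rwa [inv_inv, show n⁻¹ * (h * a * h⁻¹) * n = c * a * c⁻¹ by rw [hc]; group] at h1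
  have hcard := card_le_of_le hmap
  rw [Subgroup.card_map_of_injective (f := (MulAut.conj c).toMonoidHom) (MulAut.conj c).injective] at hcard
  exact (eq_of_le_of_card_ge hle hcard).ge

/-- A proper subgroup of `S` is properly contained in its normalizer in `S`. -/
theorem card_lt_inf_normalizer (S : Sylow 2 G) {D : Subgroup G} (hD : D ≤ (S : Subgroup G))
    (hne : D ≠ (S : Subgroup G)) :
    Nat.card D < Nat.card ↥((S : Subgroup G) ⊓ normalizer (D : Set G)) := by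
  haveI : Fact (Nat.Prime 2) := ⟨Nat.prime_two⟩
  haveI := IsPGroup.isNilpotent S.2
  have hlt : D.subgroupOf (S : Subgroup G) < ⊤ :=
    lt_top_iff_ne_top.2 fun e => hne (le_antisymm hD (subgroupOf_eq_top.1 e))
  obtain ⟨x, hx, hxD⟩ := SetLike.exists_of_lt
    ((Group.normalizerCondition_of_isNilpotent (G := (S : Subgroup G))) _ hlt)
  have hle : D ≤ (S : Subgroup G) ⊓ normalizer (D : Set G) := le_inf hD le_normalizer
  refine lt_of_le_of_ne (card_le_of_le hle) fun e => hxD ?_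
  have hxn : (x : G) ∈ normalizer (D : Set G) := mem_normalizer_fintype fun d hd =>
    (mem_normalizer_iff.1 hx ⟨d, hD hd⟩).1 hd
  show (x : G) ∈ D
  rw [eq_of_le_of_card_ge hle e.ge]
  exact ⟨x.2, hxn⟩

namespace Ctx

variable [IsSimpleGroup G] (h : Ctx π G)
include h

theorem normal_eq_bot {N : Subgroup G} (hN : N.Normal) (ho : Odd (Nat.card N)) : N = ⊥ :=
  hN.eq_bot_or_eq_top.resolve_right fun e => even_of_simple h.nonab (by rwa [e, card_top] at ho)

/-- The structure of a proper subgroup: the `π'`-elements times the normalizer of a maximal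
2-subgroup. -/
theorem loc {M : Subgroup G} (hM : M ≠ ⊤) :
    ∃ K : Subgroup G, (∀ x, x ∈ K ↔ x ∈ M ∧ PiFree π (orderOf x)) ∧
      ∀ R : Subgroup G, R ≤ M → IsPGroup 2 R →
        (∀ Q : Subgroup G, R ≤ Q → Q ≤ M → IsPGroup 2 Q → Q ≤ R) →
          ∀ m ∈ M, ∃ k ∈ K, ∃ n ∈ M, n ∈ normalizer (R : Set G) ∧ m = k * n := by
  haveI : Fact (Nat.Prime 2) := ⟨Nat.prime_two⟩
  obtain ⟨K₀, hK₀⟩ := h.sub M hM
  obtain ⟨K, hK⟩ := (h.sub M hM).exists_sub
  haveI : K₀.Normal := ⟨fun _ ha _ => Closed.conj_mem hK₀ ha⟩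
  refine ⟨K, hK, fun R hRM hR hmax m hm => ?_⟩
  set f := QuotientGroup.mk' K₀ with hf
  have hfree : PiFree π (Nat.card K₀) := piFree_card fun x hx => (hK₀ x).1 hx
  have hnum : PiNum π (Nat.card (⊤ : Subgroup (M ⧸ K₀))) := piNum_card fun q _ hq => by
    obtain ⟨y, rfl⟩ := QuotientGroup.mk_surjective q
    obtain ⟨i, hi, hi'⟩ := exists_pi_power K₀ y hq
    rw [← hi']
    exact (QuotientGroup.eq_one_iff _).2 ((hK₀ _).2 hi)
  have htc : TwoClosed (M ⧸ K₀) := ((h.cl.subgroup M).quotient_free K₀ hfree ⊤ hnum).map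
    (Subgroup.topEquiv : (⊤ : Subgroup (M ⧸ K₀)) ≃* M ⧸ K₀).toMonoidHom
    (Subgroup.topEquiv : (⊤ : Subgroup (M ⧸ K₀)) ≃* M ⧸ K₀).surjective
  set Rs := sylowIn hRM hR hmax with hRs
  set L := ((Rs.mapSurjective (f := f) (QuotientGroup.mk'_surjective K₀) : Sylow 2 (M ⧸ K₀)) :
    Subgroup (M ⧸ K₀)).comap f with hL
  haveI : L.Normal := (htc _).comap f
  have hRL : (Rs : Subgroup M) ≤ L := fun r hr => ⟨r, hr, rfl⟩
  have hmem : (⟨m, hm⟩ : M) ∈ normalizer ((Rs : Subgroup M) : Set M) ⊔ L := by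
    have htop : normalizer ((Rs : Subgroup M) : Set M) ⊔ L = ⊤ := Sylow.normalizer_sup_eq_top' Rs hRL
    rw [htop]
    exact mem_top _
  rw [← SetLike.mem_coe, Subgroup.mul_normal] at hmem
  obtain ⟨n₀, hn₀, l, hl, hnl⟩ := hmem
  obtain ⟨r, hr, hrl⟩ : f l ∈ (Rs : Subgroup M).map f := hl
  set n := n₀ * r with hn'
  have hn : n ∈ normalizer ((Rs : Subgroup M) : Set M) := mul_mem hn₀ (le_normalizer hr)
  have hk : n * (r⁻¹ * l) * n⁻¹ ∈ K₀ := (inferInstance : K₀.Normal).conj_mem _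
    ((QuotientGroup.eq_one_iff _).1 (by
      show f (r⁻¹ * l) = 1
      rw [map_mul, map_inv, hrl, inv_mul_cancel])) _
  refine ⟨_, (hK _).2 ⟨(n * (r⁻¹ * l) * n⁻¹).2, ?_⟩, n, n.2, ?_, ?_⟩
  · rw [Subgroup.orderOf_coe]
    exact (hK₀ _).1 hk
  · exact mem_normalizer_fintype fun a ha => (mem_normalizer_iff.1 hn ⟨a, hRM ha⟩).1 ha
  · have e : (⟨m, hm⟩ : M) = n * (r⁻¹ * l) * n⁻¹ * n := by
      rw [← hnl, hn']
      group
    exact congrArg Subtype.val e

/-- `N(S)` controls fusion in `S`. -/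
theorem fusion (S : Sylow 2 G) : ∀ D : Subgroup G, D ≤ (S : Subgroup G) → Fus S D := by
  haveI : Fact (Nat.Prime 2) := ⟨Nat.prime_two⟩
  suffices ∀ (k : ℕ) (D : Subgroup G), D ≤ (S : Subgroup G) →
      Nat.card (S : Subgroup G) ≤ Nat.card D + k → Fus S D from
    fun D hD => this _ D hD le_add_self
  intro k
  induction k with
  | zero =>
    intro D hD hk g hg
    have e := eq_of_le_of_card_ge hD hk
    exact ⟨g, mem_normalizer_fintype fun a ha => hg a (e ▸ ha), fun d _ => rfl⟩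
  | succ k ih =>
    intro D hD hk g hg
    by_cases hDS : D = (S : Subgroup G)
    · exact ⟨g, mem_normalizer_fintype fun a ha => hg a (hDS ▸ ha), fun d _ => rfl⟩
    by_cases hD1 : D = ⊥
    · refine ⟨1, one_mem _, fun d hd => ?_⟩
      rw [hD1, mem_bot] at hd
      subst hd
      group
    have hinjg : Function.Injective (MulAut.conj g).toMonoidHom := (MulAut.conj g).injective
    set D' := D.map (MulAut.conj g).toMonoidHom with hD'
    have hD'S : D' ≤ (S : Subgroup G) := by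
      rintro _ ⟨d, hd, rfl⟩
      exact hg d hd
    have hD'card : Nat.card D' = Nat.card D := card_map_of_injective hinjg
    have hD'ne : D' ≠ (S : Subgroup G) := fun e => hDS (eq_of_le_of_card_ge hD
      (by rw [← hD'card, e]))
    have hN : normalizer (D' : Set G) ≠ ⊤ := fun e => by
      rcases (normalizer_eq_top_iff.1 e).eq_bot_or_eq_top with e' | e'
      · exact hD1 ((map_eq_bot_iff_of_injective _ hinjg).1 e')
      · exact hD'ne (le_antisymm hD'S (by rw [e']; exact le_top))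
    set X := normalizer (D' : Set G) with hX
    set R := (S : Subgroup G) ⊓ X with hR
    have hRlt := card_lt_inf_normalizer S hD'S hD'ne
    have hfR : Fus S R := ih R inf_le_left (by rw [hR, hX]; omega)
    have hmax := sylow_inter S (X := X) (fun c hc => mem_normalizer_fintype fun a ha => by
      rw [hc a ⟨hD'S ha, le_normalizer ha⟩, mul_inv_cancel_right]
      exact ha) hfR
    obtain ⟨K, hK, hloc⟩ := h.loc hN
    set P := (S : Subgroup G) ⊓ normalizer (D : Set G) with hP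
    have hPlt := card_lt_inf_normalizer S hD hDS
    set P' := P.map (MulAut.conj g).toMonoidHom with hP'
    have hP'X : P' ≤ X := by
      rintro _ ⟨a, ha, rfl⟩
      refine mem_normalizer_fintype ?_
      rintro _ ⟨d, hd, rfl⟩
      refine ⟨a * d * a⁻¹, (mem_normalizer_iff.1 ha.2 d).1 hd, ?_⟩
      show g * (a * d * a⁻¹) * g⁻¹ = g * a * g⁻¹ * (g * d * g⁻¹) * (g * a * g⁻¹)⁻¹
      group
    obtain ⟨m, hm, hmR⟩ := conj_into (R := R) inf_le_right (S.2.to_le inf_le_left) hmax hP'X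
      ((S.2.to_le (inf_le_left : P ≤ _)).map _)
    obtain ⟨c, hc, n, hnX, hnR, hmcn⟩ := hloc R inf_le_right (S.2.to_le inf_le_left) hmax m hm
    set c' := n⁻¹ * c * n with hc'
    have hc'X : c' ∈ X := mul_mem (mul_mem (inv_mem hnX) ((hK c).1 hc).1) hnX
    have hc'free : PiFree π (orderOf c') := by
      rw [hc', show n⁻¹ * c * n = n⁻¹ * c * n⁻¹⁻¹ by rw [inv_inv], orderOf_conj]
      exact ((hK c).1 hc).2
    have hcent := h.act 2 Nat.prime_two h.two D' (S.2.to_le hD'S) c' hc'free hc'X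
    obtain ⟨n', hn', hn'e⟩ := ih P inf_le_left (by rw [hP]; omega) (c' * g) fun a ha => by
      have h1 := hmR _ ⟨a, ha, rfl⟩
      have h2 := (mem_normalizer_iff.1 (inv_mem hnR) _).1 h1
      have h3 : c' * g * a * (c' * g)⁻¹ ∈ R := by
        rw [hmcn] at h2
        rw [show c' * g * a * (c' * g)⁻¹ =
          n⁻¹ * (c * n * (g * a * g⁻¹) * (c * n)⁻¹) * n⁻¹⁻¹ by rw [hc']; group]
        exact h2
      exact h3.1
    refine ⟨n', hn', fun d hd => ?_⟩
    rw [hn'e d ⟨hD hd, le_normalizer hd⟩]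
    have h1 := hcent (g * d * g⁻¹) ⟨d, hd, rfl⟩
    calc c' * g * d * (c' * g)⁻¹ = c' * (g * d * g⁻¹) * c'⁻¹ := by group
      _ = g * d * g⁻¹ := by rw [← h1, mul_inv_cancel_right]

/-- Fusion of one element. -/
theorem fusion_one (S : Sylow 2 G) {x g : G} (hx : x ∈ (S : Subgroup G))
    (hgx : g * x * g⁻¹ ∈ (S : Subgroup G)) :
    ∃ n ∈ normalizer ((S : Subgroup G) : Set G), n * x * n⁻¹ = g * x * g⁻¹ := by
  obtain ⟨n, hn, e⟩ := h.fusion S (zpowers x) (zpowers_le.2 hx) g fun d hd => by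
    obtain ⟨i, rfl⟩ := mem_zpowers_iff.1 hd
    rw [← conj_zpow]
    exact zpow_mem hgx i
  exact ⟨n, hn, e x (mem_zpowers x)⟩

/-- `N(S)` fixes no central involution. -/
theorem moves (S : Sylow 2 G) {z : G} (hz : z ∈ omegaCenter S) (hz1 : z ≠ 1) :
    ∃ n ∈ normalizer ((S : Subgroup G) : Set G), n * z * n⁻¹ ≠ z := by
  by_contra hno
  push Not at hno
  obtain ⟨N, hN, hodd, hc⟩ := ZStar.zstar_of_sylow S (CentralRankOne.orderOf_two hz.2.1 hz1)
    fun g hg => by
      obtain ⟨n, hn, e⟩ := h.fusion_one S hz.1 hg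
      rw [← e, hno n hn]
  have hN1 := h.normal_eq_bot hN hodd
  refine Criterion.Consumers.centralizer_ne_top h.nonab hz1
    (eq_top_iff.2 fun g _ => mem_centralizer_singleton_iff.2 ?_)
  have h1 := hc g
  rw [hN1, mem_bot, mul_inv_eq_one, mul_inv_eq_iff_eq_mul] at h1
  exact h1.symm

/-- Two central involutions. -/
theorem exists_two (S : Sylow 2 G) : ∃ z ∈ omegaCenter S, ∃ y ∈ omegaCenter S,
    z ≠ 1 ∧ y ≠ 1 ∧ z ≠ y := by
  haveI : Fact (Nat.Prime 2) := ⟨Nat.prime_two⟩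
  obtain ⟨x, hx, hx1⟩ : ∃ x ∈ (S : Subgroup G), x ≠ 1 := by
    by_contra hno
    push Not at hno
    refine Sylow.ne_bot_of_dvd_card S ?_ ((eq_bot_iff_forall _).2 hno)
    exact even_iff_two_dvd.1 (Nat.not_odd_iff_even.1 (even_of_simple h.nonab))
  obtain ⟨z, hz, hz1⟩ := exists_omegaCenter hx hx1
  obtain ⟨n, hn, hne⟩ := h.moves S hz hz1
  exact ⟨z, hz, _, normalizer_conj_mem hn hz, hz1, fun e => hz1 (conj_eq_one_iff.1 e), Ne.symm hne⟩

/-- An elementary subgroup of order eight containing the central involutions gives a strongly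
embedded subgroup. -/
theorem strongly (S : Sylow 2 G) (A : Subgroup G) (hAS : A ≤ (S : Subgroup G))
    (hWA : omegaCenter S ≤ A) (hA2 : ∀ a ∈ A, a * a = 1) (hA8 : 8 ≤ Nat.card A) :
    ∃ H : Subgroup G, Cfsg.IsStronglyEmbedded H := by
  classical
  haveI : Fact (Nat.Prime 2) := ⟨Nat.prime_two⟩
  have hAc : ∀ a ∈ A, ∀ b ∈ A, a * b = b * a := fun a ha b hb => by
    have h1 := hA2 _ (mul_mem ha hb)
    rw [← inv_eq_of_mul_eq_one_right h1, mul_inv_rev, inv_eq_of_mul_eq_one_right (hA2 a ha),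
      inv_eq_of_mul_eq_one_right (hA2 b hb)]
  have hex : ∀ a : G, ∃ K : Subgroup G, a ≠ 1 →
      ∀ x, x ∈ K ↔ x ∈ centralizer ({a} : Set G) ∧ PiFree π (orderOf x) := fun a => by
    by_cases ha : a = 1
    · exact ⟨⊥, fun h' => absurd ha h'⟩
    · obtain ⟨K, hK⟩ := (h.sub _ (Criterion.Consumers.centralizer_ne_top h.nonab ha)).exists_sub
      exact ⟨K, fun _ => hK⟩
  choose θ hθ using hex
  have hθodd : ∀ a : G, a ≠ 1 → Odd (Nat.card (θ a)) := fun a ha =>
    (piFree_card fun x hx => ((hθ a ha x).1 hx).2).odd h.two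
  have hsig := Cfsg.Agent.S0217.result (p := 2) A hAc (fun a ha => by rw [sq]; exact hA2 a ha)
    (by norm_num; exact hA8) θ (fun a _ ha x hx => ((hθ a ha x).1 hx).1)
    (fun a _ ha => fun hd => Nat.not_even_iff_odd.2 (hθodd a ha) (even_iff_two_dvd.2 hd))
    (fun a ha ha1 b hb x hx => (hθ a ha1 _).2 ⟨mul_mem (mul_mem
      (mem_centralizer_singleton_iff.2 (hAc b hb a ha)) ((hθ a ha1 x).1 hx).1)
        (inv_mem (mem_centralizer_singleton_iff.2 (hAc b hb a ha))), by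
      rw [orderOf_conj]; exact ((hθ a ha1 x).1 hx).2⟩)
    (fun a _ ha => Cfsg.Agent.S0205.result (hθodd a ha))
    (fun a _ ha1 b _ hb1 x hx => (hθ b hb1 x).2 ⟨hx.2, ((hθ a ha1 x).1 hx.1).2⟩)
  set V := ⨆ w : {a : G // a ∈ omegaCenter S ∧ a ≠ 1}, θ w with hV
  set N := normalizer ((S : Subgroup G) : Set G) with hN
  have hVodd : Odd (Nat.card V) := by
    rw [Nat.odd_iff, ← Nat.two_dvd_ne_zero]
    refine fun hd => hsig.1 (hd.trans (card_dvd_of_le (iSup_le fun w => ?_)))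
    exact le_iSup (fun a : {a : G // a ∈ A ∧ a ≠ 1} => θ a) ⟨w.1, hWA w.2.1, w.2.2⟩
  have hθV : ∀ w ∈ omegaCenter S, w ≠ 1 → θ w ≤ V := fun w hw hw1 =>
    le_iSup (fun w : {a : G // a ∈ omegaCenter S ∧ a ≠ 1} => θ w) ⟨w, hw, hw1⟩
  have hNV : N ≤ normalizer (V : Set G) := fun n hn => by
    refine mem_normalizer_fintype fun v hv => ?_
    have hle : V.map (MulAut.conj n).toMonoidHom ≤ V := by
      rw [hV, Subgroup.map_iSup]
      refine iSup_le fun w => ?_
      rintro _ ⟨x, hx, rfl⟩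
      have hw1 : n * w.1 * n⁻¹ ≠ 1 := fun e => w.2.2 (conj_eq_one_iff.1 e)
      refine hθV _ (normalizer_conj_mem hn w.2.1) hw1 ((hθ _ hw1 _).2 ⟨?_, ?_⟩)
      · refine mem_centralizer_singleton_iff.2 ?_
        have h1 := mem_centralizer_singleton_iff.1 ((hθ _ w.2.2 x).1 hx).1
        show n * x * n⁻¹ * (n * w.1 * n⁻¹) = n * w.1 * n⁻¹ * (n * x * n⁻¹)
        calc n * x * n⁻¹ * (n * w.1 * n⁻¹) = n * (x * w.1) * n⁻¹ := by group
          _ = n * (w.1 * x) * n⁻¹ := by rw [h1]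
          _ = _ := by group
      · show PiFree π (orderOf (n * x * n⁻¹))
        rw [orderOf_conj]
        exact ((hθ _ w.2.2 x).1 hx).2
    exact hle ⟨v, hv, rfl⟩
  set M := V ⊔ N with hM
  have hMtop : M ≠ ⊤ := fun e => by
    have hVn : V.Normal := normalizer_eq_top_iff.1 (eq_top_iff.2 (e ▸ sup_le le_normalizer hNV))
    have hV1 := h.normal_eq_bot hVn hVodd
    exact normalizer_sylow_ne_top h.nonab S (by rw [← e, hM, hV1, bot_sup_eq])
  have hSM : (S : Subgroup G) ≤ M := le_normalizer.trans le_sup_right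
  -- the centralizers of the central involutions
  have hCW : ∀ w ∈ omegaCenter S, w ≠ 1 → centralizer ({w} : Set G) ≤ M := by
    intro w hw hw1 c hc
    obtain ⟨K, hK, hloc⟩ := h.loc (Criterion.Consumers.centralizer_ne_top h.nonab hw1)
    obtain ⟨k, hk, n, -, hn, rfl⟩ := hloc (S : Subgroup G)
      (fun s hs => mem_centralizer_singleton_iff.2 (commute_omegaCenter hw hs)) S.2
      (fun Q hSQ _ hQ => (S.3 hQ hSQ).le) c hc
    exact mul_mem (le_sup_left (a := V) (hθV w hw hw1 ((hθ w hw1 k).2 ((hK k).1 hk))))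
      (le_sup_right (b := N) hn)
  -- the centralizers of all involutions of `S`
  obtain ⟨z, hz, y, hy, hz1, hy1, hzy⟩ := h.exists_two S
  have hC : ∀ t ∈ (S : Subgroup G), t * t = 1 → t ≠ 1 → centralizer ({t} : Set G) ≤ M := by
    intro t ht ht2 ht1 c hc
    set X := centralizer ({t} : Set G) with hX
    have hWX : ∀ w ∈ omegaCenter S, w ∈ X := fun w hw =>
      mem_centralizer_singleton_iff.2 (commute_omegaCenter hw ht).symm
    have hmax := sylow_inter S (X := X) (fun c hc => mem_centralizer_singleton_iff.2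
      (hc t ⟨ht, mem_centralizer_singleton_iff.2 rfl⟩)) (h.fusion S _ inf_le_left)
    obtain ⟨K, hK, hloc⟩ := h.loc (Criterion.Consumers.centralizer_ne_top h.nonab ht1)
    obtain ⟨k, hk, n, -, hn, rfl⟩ := hloc ((S : Subgroup G) ⊓ X) inf_le_right
      (S.2.to_le inf_le_left) hmax c hc
    refine mul_mem (le_sup_left (a := V) ?_) ?_
    · have hKodd : Odd (Nat.card K) := (piFree_card fun x hx => ((hK x).1 hx).2).odd h.two
      have hnorm : ∀ u ∈ omegaCenter S, ∀ d ∈ K, u * d * u⁻¹ ∈ K := fun u hu d hd => (hK _).2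
        ⟨mul_mem (mul_mem (hWX u hu) ((hK d).1 hd).1) (inv_mem (hWX u hu)), by
          rw [orderOf_conj]; exact ((hK d).1 hd).2⟩
      have hnV : ∀ u ∈ omegaCenter S, ∀ d ∈ V, u * d * u⁻¹ ∈ V := fun u hu d hd =>
        (mem_normalizer_iff.1 (hNV (le_normalizer hu.1)) d).1 hd
      have hsub : ∀ u ∈ omegaCenter S, u ≠ 1 → ∀ d ∈ K, d * u = u * d → d ∈ V :=
        fun u hu hu1 d hd he => hθV u hu hu1
          ((hθ u hu1 d).2 ⟨mem_centralizer_singleton_iff.2 he, ((hK d).1 hd).2⟩)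
      exact SmallCent.le_of_centralizers hz.2.1 hy.2.1 (commute_omegaCenter hy hz.1) hz1 hy1 hzy
        hKodd (hnorm z hz) (hnorm y hy) (hnV z hz) (hnV y hy) (hsub z hz hz1) (hsub y hy hy1)
        (hsub _ (mul_mem hz hy) fun e => hzy
          ((inv_eq_of_mul_eq_one_right hz.2.1).symm.trans (inv_eq_of_mul_eq_one_right e))) hk
    · obtain ⟨n', hn', hne⟩ := h.fusion S (omegaCenter S) omegaCenter_le n fun w hw =>
        ((mem_normalizer_iff.1 hn w).1 ⟨hw.1, hWX w hw⟩).1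
      have h2 : n'⁻¹ * n ∈ centralizer ({z} : Set G) := mem_centralizer_singleton_iff.2 (by
        calc n'⁻¹ * n * z = n'⁻¹ * (n * z * n⁻¹) * n := by group
          _ = n'⁻¹ * (n' * z * n'⁻¹) * n := by rw [hne z hz]
          _ = z * (n'⁻¹ * n) := by group)
      have h3 := mul_mem (le_sup_right (b := N) hn' : n' ∈ M) (hCW z hz hz1 h2)
      rwa [mul_inv_cancel_left] at h3
  have hinto : ∀ x ∈ M, x * x = 1 → ∃ m ∈ M, m * x * m⁻¹ ∈ (S : Subgroup G) := by
    intro x hx hx2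
    obtain ⟨m, hm, hme⟩ := conj_into (R := (S : Subgroup G)) hSM S.2
      (fun Q hSQ _ hQ => (S.3 hQ hSQ).le) (zpowers_le.2 hx)
      (CfsgLib.FTRows.CyclicMeet.isPGroup_zpowers (k := 1) (by rw [pow_one, sq, hx2]))
    exact ⟨m, hm, hme x (mem_zpowers x)⟩
  refine ⟨M, hMtop, even_iff_two_dvd.2 ((dvd_trans ?_ (card_dvd_of_le hSM))), fun g hg => ?_⟩
  · have h2 := Subgroup.orderOf_dvd_natCard (S : Subgroup G) hz.1
    rwa [CentralRankOne.orderOf_two hz.2.1 hz1] at h2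
  by_contra hev
  obtain ⟨⟨x, hx⟩, hxo⟩ := exists_prime_orderOf_dvd_card'
    (G := ↥(M ⊓ M.map (MulAut.conj g).toMonoidHom)) 2
    (even_iff_two_dvd.1 (Nat.not_odd_iff_even.1 hev))
  rw [Subgroup.orderOf_mk] at hxo
  obtain ⟨hxM, x', hx'M, hxx'⟩ := hx
  have hxx : x * x = 1 := CentralRankOne.mul_self_of_order_two hxo
  have hx'2 : x' * x' = 1 := (MulAut.conj g).injective (by
    rw [map_mul, map_one]
    show (MulAut.conj g).toMonoidHom x' * (MulAut.conj g).toMonoidHom x' = 1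
    rw [hxx', hxx])
  obtain ⟨m, hm, hmx⟩ := hinto x hxM hxx
  obtain ⟨m', hm', hmx'⟩ := hinto x' hx'M hx'2
  set u := m * g * m'⁻¹ with hu
  have hux : u * (m' * x' * m'⁻¹) * u⁻¹ = m * x * m⁻¹ := by
    rw [← hxx', hu]
    show _ = m * (g * x' * g⁻¹) * m⁻¹
    group
  obtain ⟨n, hn, hne⟩ := h.fusion_one S (g := u) hmx' (by rw [hux]; exact hmx)
  have ht2 : m' * x' * m'⁻¹ * (m' * x' * m'⁻¹) = 1 := by
    rw [show m' * x' * m'⁻¹ * (m' * x' * m'⁻¹) = m' * (x' * x') * m'⁻¹ by group, hx'2]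
    group
  have ht1 : m' * x' * m'⁻¹ ≠ 1 := fun e => CentralRankOne.ne_one_of_order_two hxo (by
    rw [← hxx', conj_eq_one_iff.1 e, map_one])
  have h2 : n⁻¹ * u ∈ centralizer ({m' * x' * m'⁻¹} : Set G) :=
    mem_centralizer_singleton_iff.2 (by
      calc n⁻¹ * u * (m' * x' * m'⁻¹) = n⁻¹ * (u * (m' * x' * m'⁻¹) * u⁻¹) * u := by group
        _ = n⁻¹ * (n * (m' * x' * m'⁻¹) * n⁻¹) * u := by rw [hne]
        _ = m' * x' * m'⁻¹ * (n⁻¹ * u) := by group)
  have hu' : u ∈ M := by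
    have := mul_mem (le_sup_right (b := N) hn : n ∈ M) (hC _ hmx' ht2 ht1 h2)
    rwa [mul_inv_cancel_left] at this
  refine hg ?_
  rw [show g = m⁻¹ * u * m' by rw [hu]; group]
  exact mul_mem (mul_mem (inv_mem hm) hu') hm'

end Ctx

end CfsgLib.PiClosed
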